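import Groth.Agent.H06SecComp.Generic
import Groth.Agent.H06EGA15.Component
import Groth.Agent.H17.Reduced

/-!
Components along a section are geometrically connected.
-/

open CategoryTheory CategoryTheory.Limits AlgebraicGeometry TopologicalSpace Topology

universe u

namespace Groth.Agent.H06SecComp

open Groth.Agent.H8Props.FieldDim

variable {X Y : Scheme.{u}} (f : X ⟶ Y) (g : Y ⟶ X) (hg : g ≫ f = 𝟙 Y)

set_option backward.isDefEq.respectTransparency false in
include hg in
/-- The preimage of a component along a section is connected in every fibre of a base change. -/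
theorem isPreconnected_preimage_component (W : X.Opens) {Y' : Scheme.{u}} (k : Y' ⟶ Y)
    (y' : Y') (hW : g (k y') ∈ W) :
    _root_.IsPreconnected (pullback.fst f k ⁻¹' connectedComponentIn ((W : Set X) ∩ f ⁻¹' {k y'}) (g (k y')) ∩
      pullback.snd f k ⁻¹' {y'}) := by
  let y := k y'
  have hfg : f (g y) = y := H06EGA15.f_g_apply f g hg y
  set C := connectedComponentIn ((W : Set X) ∩ f ⁻¹' {y}) (g y)
  let F := f.fiberToSpecResidueField y
  let ι := f.fiberι y
  obtain ⟨u₀, hu₀⟩ := (f.range_fiberι y).ge (show g y ∈ f ⁻¹' {y} from hfg)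
  have himg : ι '' (ι ⁻¹' W) = (W : Set X) ∩ f ⁻¹' {y} := by
    rw [Set.image_preimage_eq_inter_range, f.range_fiberι]
  have hC : C = ι '' connectedComponentIn (ι ⁻¹' W) u₀ := by
    rw [image_connectedComponentIn_of_isEmbedding ι.isEmbedding (show ι u₀ ∈ (W : Set X) from hu₀ ▸ hW), himg, hu₀]
  let UW : (f.fiber y).Opens := ⟨ι ⁻¹' W, W.isOpen.preimage ι.continuous⟩
  have hu₀W : u₀ ∈ UW := show ι u₀ ∈ (W : Set X) from hu₀ ▸ hW
  let Zs := Scheme.IdealSheafData.vanishingIdeal (X := UW.toScheme)
    ⟨connectedComponent (⟨u₀, hu₀W⟩ : UW.toScheme), isClosed_connectedComponent⟩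
  let j : Zs.subscheme ⟶ f.fiber y := Zs.subschemeι ≫ UW.ι
  have hrj : Set.range j = connectedComponentIn (ι ⁻¹' W) u₀ := by
    have h1 : Set.range Zs.subschemeι = connectedComponent (⟨u₀, hu₀W⟩ : UW.toScheme) := by
      show Set.range Zs.subschemeι = _
      rw [Scheme.IdealSheafData.range_subschemeι, Scheme.IdealSheafData.coe_support_vanishingIdeal]
      rfl
    show Set.range (UW.ι ∘ Zs.subschemeι) = _
    rw [Set.range_comp, h1, ← connectedComponentIn_univ,
      image_connectedComponentIn_of_isEmbedding UW.ι.isEmbedding (Set.mem_univ _), Set.image_univ,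
      Scheme.Opens.range_ι]
    rfl
  let t : Spec (CommRingCat.of (Y.residueField y)) ⟶ f.fiber y :=
    pullback.lift (Y.fromSpecResidueField y ≫ g) (𝟙 _) (by rw [Category.assoc, hg, Category.comp_id, Category.id_comp])
  have ht : ∀ z, t z = u₀ := fun z => ι.isEmbedding.injective (by
    rw [hu₀, ← Scheme.Hom.comp_apply, show t ≫ ι = Y.fromSpecResidueField y ≫ g from pullback.lift_fst _ _ _,
      Scheme.Hom.comp_apply]
    exact congrArg g (Scheme.fromSpecResidueField_apply y z))
  have hu₀U : u₀ ∈ Set.range j := hrj ▸ mem_connectedComponentIn hu₀W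
  obtain ⟨tU, htU⟩ := H17.exists_lift_immersion_of_range_subset t j (by
    rintro _ ⟨z, rfl⟩
    rw [ht]; exact hu₀U)
  haveI : ConnectedSpace Zs.subscheme := by
    rw [connectedSpace_iff_univ]
    refine ⟨?_, ?_⟩
    · obtain ⟨w, -⟩ := hu₀U
      exact ⟨w, trivial⟩
    · rw [← j.isEmbedding.isInducing.isPreconnected_image, Set.image_univ, hrj]
      exact isPreconnected_connectedComponentIn
  haveI : GeometricallyConnected (tU ≫ j ≫ F) := by
    rw [← Category.assoc, htU, show t ≫ F = 𝟙 _ from pullback.lift_snd _ _ _]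
    refine ⟨geometrically_iff_of_isClosedUnderIsomorphisms.2 fun K _ b => ?_⟩
    let e := asIso (pullback.snd (𝟙 (Spec (CommRingCat.of (Y.residueField y)))) b)
    exact e.inv.homeomorph.surjective.connectedSpace e.inv.continuous
  haveI := H06Desc.geometricallyConnected_of_source tU (j ≫ F)
  letI : Algebra (IsLocalRing.ResidueField (Y.presheaf.stalk y)) (Y'.residueField y') := (k.residueFieldMap y').hom.toAlgebra
  let a := Spec.map (CommRingCat.ofHom (algebraMap (IsLocalRing.ResidueField (Y.presheaf.stalk y)) (Y'.residueField y')))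
  haveI : ConnectedSpace ↥(pullback (j ≫ F) a) := GeometricallyConnected.geometrically_connectedSpace
    (f := j ≫ F) a _ _ (IsPullback.of_hasPullback _ _)
  let e₁ := pullbackRightPullbackFstIso F a j
  haveI : ConnectedSpace ↥(pullback j (FBase.bcπ F (Y'.residueField y'))) :=
    e₁.inv.homeomorph.surjective.connectedSpace e₁.inv.continuous
  let q := pullback.snd f k
  let hP := isPullback_fiberToSpecResidueField_of_isPullback (IsPullback.of_hasPullback f k) y'
  let e : q.fiber y' ≅ FBase.bc F (Y'.residueField y') := hP.isoPullback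
  let m := pullback.snd j (FBase.bcπ F (Y'.residueField y')) ≫ e.inv ≫ q.fiberι y'
  have hem : e.hom ≫ FBase.bcπ F (Y'.residueField y') ≫ ι = q.fiberι y' ≫ pullback.fst f k := by
    show hP.isoPullback.hom ≫ pullback.fst _ _ ≫ f.fiberι y = _
    rw [← Category.assoc, IsPullback.isoPullback_hom_fst]
    exact pullback.lift_fst _ _ _
  have hem' : ∀ w, ι ((FBase.bcπ F (Y'.residueField y')) (e.hom w)) = pullback.fst f k (q.fiberι y' w) :=
    fun w => congrArg (fun φ : q.fiber y' ⟶ X => φ w) hem
  have key : pullback.fst f k ⁻¹' C ∩ q ⁻¹' {y'} = m '' Set.univ := by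
    rw [Set.image_univ]
    ext z
    constructor
    · rintro ⟨hz, hzy⟩
      obtain ⟨w, rfl⟩ := (q.range_fiberι y').ge hzy
      have hz' : pullback.fst f k (q.fiberι y' w) ∈ ι '' connectedComponentIn (ι ⁻¹' W) u₀ := hC ▸ hz
      obtain ⟨v, hv, hvw⟩ := hz'
      rw [← hem'] at hvw
      have hmem : (FBase.bcπ F (Y'.residueField y')) (e.hom w) ∈ Set.range j := by
        rw [hrj, ← ι.isEmbedding.injective hvw]; exact hv
      obtain ⟨r, hr⟩ : e.hom w ∈ Set.range (pullback.snd j (FBase.bcπ F (Y'.residueField y'))) := by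
        rw [Scheme.Pullback.range_snd]
        exact hmem
      refine ⟨r, ?_⟩
      show q.fiberι y' (e.inv (pullback.snd j _ r)) = _
      rw [hr, ← Scheme.Hom.comp_apply (f := e.hom), e.hom_inv_id]
      rfl
    · rintro ⟨r, rfl⟩
      refine ⟨?_, (q.range_fiberι y').le ⟨_, rfl⟩⟩
      show pullback.fst f k (q.fiberι y' (e.inv (pullback.snd j _ r))) ∈ C
      rw [← hem', ← Scheme.Hom.comp_apply (f := e.inv), e.inv_hom_id, hC]
      refine Set.mem_image_of_mem ι ?_
      have : (FBase.bcπ F (Y'.residueField y')) (pullback.snd j (FBase.bcπ F (Y'.residueField y')) r) ∈ Set.range j :=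
        ⟨pullback.fst j _ r, congrArg (fun φ : pullback j (FBase.bcπ F (Y'.residueField y')) ⟶ f.fiber y => φ r) pullback.condition⟩
      rw [hrj] at this
      exact this
  rw [key]
  exact isPreconnected_univ.image _ m.continuous.continuousOn

include hg in
/-- Section components commute with base change. -/
theorem sectionComponents_baseChange {X' Y' : Scheme.{u}} (f' : X' ⟶ Y') (g' : X' ⟶ X)
    (k : Y' ⟶ Y) (hc : IsPullback g' f' f k) (s' : Y' ⟶ X') (hs' : s' ≫ f' = 𝟙 Y') (hs'g : s' ≫ g' = k ≫ g) :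
    MoreMor.sectionComponents f' s' = g' ⁻¹' MoreMor.sectionComponents f g := by
  let e := hc.isoPullback
  have hef : ∀ w, pullback.snd f k (e.hom w) = f' w := fun w => by
    rw [← Scheme.Hom.comp_apply, IsPullback.isoPullback_hom_snd]
  have heg : ∀ w, pullback.fst f k (e.hom w) = g' w := fun w => by
    rw [← Scheme.Hom.comp_apply, IsPullback.isoPullback_hom_fst]
  ext x
  let y' := f' x
  have hfx : f (g' x) = k y' := by rw [← Scheme.Hom.comp_apply, hc.w, Scheme.Hom.comp_apply]
  have hsg : g' (s' y') = g (k y') := by rw [← Scheme.Hom.comp_apply, hs'g, Scheme.Hom.comp_apply]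
  have hfs : f' (s' y') = y' := H06EGA15.f_g_apply f' s' hs' y'
  show x ∈ connectedComponentIn (f' ⁻¹' {f' x}) (s' (f' x)) ↔ g' x ∈ connectedComponentIn (f ⁻¹' {f (g' x)}) (g (f (g' x)))
  rw [hfx]
  constructor
  · intro h
    refine (isPreconnected_connectedComponentIn.image g' g'.continuous.continuousOn).subset_connectedComponentIn
      ⟨s' y', mem_connectedComponentIn (show s' y' ∈ f' ⁻¹' {y'} from hfs), hsg⟩ ?_ ⟨x, h, rfl⟩
    rintro _ ⟨w, hw, rfl⟩
    show f (g' w) = k y'
    rw [← Scheme.Hom.comp_apply, hc.w, Scheme.Hom.comp_apply]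
    exact congrArg k (connectedComponentIn_subset (f' ⁻¹' {y'}) _ hw)
  · intro h
    have hp := isPreconnected_preimage_component f g hg ⊤ k y' trivial
    rw [show ((⊤ : X.Opens) : Set X) ∩ f ⁻¹' {k y'} = f ⁻¹' {k y'} from Set.univ_inter _] at hp
    refine (hp.image e.inv e.inv.continuous.continuousOn).subset_connectedComponentIn
      ⟨e.hom (s' y'), ⟨?_, ?_⟩, ?_⟩ ?_ ⟨e.hom x, ⟨?_, ?_⟩, ?_⟩
    · show pullback.fst f k (e.hom (s' y')) ∈ connectedComponentIn (f ⁻¹' {k y'}) (g (k y'))
      rw [heg, hsg]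
      exact mem_connectedComponentIn (H06EGA15.f_g_apply f g hg _)
    · show pullback.snd f k (e.hom (s' y')) = y'
      rw [hef, hfs]
    · rw [← Scheme.Hom.comp_apply, e.hom_inv_id]; rfl
    · rintro _ ⟨w, ⟨-, hw⟩, rfl⟩
      show f' (e.inv w) = y'
      have he : e.hom (e.inv w) = w := by rw [← Scheme.Hom.comp_apply, e.inv_hom_id]; rfl
      rw [← hef, he]
      exact hw
    · show pullback.fst f k (e.hom x) ∈ connectedComponentIn (f ⁻¹' {k y'}) (g (k y'))
      rw [heg]; exact h
    · show pullback.snd f k (e.hom x) = y'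
      rw [hef]
    · rw [← Scheme.Hom.comp_apply, e.hom_inv_id]; rfl

end Groth.Agent.H06SecComp
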