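import Groth.Agent.H7Flat.GeomInt.Counts
import Groth.Agent.H06Desc.Geom
import Groth.Agent.H17.Topology
import Groth.Agent.H17.Image
import Groth.Agent.H8Props.FieldDimFibre
import Groth.Prelude.Def_MoreMor

/-!
Section components near a generic point.
-/

open CategoryTheory CategoryTheory.Limits AlgebraicGeometry TopologicalSpace Topology

universe u

namespace Groth.Agent.H06SecComp

open Groth.Agent.H7Flat.GeomInt

/-- An embedding carries connected components in subsets to those in the images. -/
theorem image_connectedComponentIn_of_isEmbedding {α β : Type*} [TopologicalSpace α] [TopologicalSpace β]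
    {e : α → β} (he : IsEmbedding e) {F : Set α} {a : α} (ha : a ∈ F) :
    e '' connectedComponentIn F a = connectedComponentIn (e '' F) (e a) := by
  refine Set.Subset.antisymm ?_ ?_
  · exact (isPreconnected_connectedComponentIn.image e he.continuous.continuousOn).subset_connectedComponentIn
      (Set.mem_image_of_mem e (mem_connectedComponentIn ha)) (Set.image_mono (connectedComponentIn_subset F a))
  · have hsub : connectedComponentIn (e '' F) (e a) ⊆ Set.range e :=
      (connectedComponentIn_subset _ _).trans (Set.image_subset_range e F)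
    have hp : _root_.IsPreconnected (e ⁻¹' connectedComponentIn (e '' F) (e a)) := by
      rw [← he.isInducing.isPreconnected_image, Set.image_preimage_eq_of_subset hsub]
      exact isPreconnected_connectedComponentIn
    intro z hz
    obtain ⟨w, rfl⟩ := hsub hz
    refine Set.mem_image_of_mem e (hp.subset_connectedComponentIn
      (show e a ∈ connectedComponentIn (e '' F) (e a) from mem_connectedComponentIn (Set.mem_image_of_mem e ha)) ?_ hz)
    intro v hv
    obtain ⟨v', hv', hev⟩ := connectedComponentIn_subset _ _ (show e v ∈ _ from hv)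
    exact he.injective hev ▸ hv'

/-- Fibres of morphisms locally of finite type are locally connected. -/
theorem locallyConnectedSpace_fiber {X Y : Scheme.{u}} (f : X ⟶ Y) [LocallyOfFiniteType f] (y : Y) :
    LocallyConnectedSpace ↥(f.fiber y) := by
  haveI : LocallyOfFiniteType (f.fiberToSpecResidueField y) := H8Props.FieldDim.locallyOfFiniteType_fiberToSpec f y
  haveI : IsNoetherianRing (CommRingCat.of (Y.residueField y)) := inferInstanceAs (IsNoetherianRing (Y.residueField y))
  haveI : IsLocallyNoetherian (f.fiber y) := LocallyOfFiniteType.isLocallyNoetherian (f.fiberToSpecResidueField y)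
  refine H17.locallyConnectedSpace_of_locallyNoetherian fun x => ?_
  obtain ⟨U, hU, hxU, -⟩ := exists_isAffineOpen_mem_and_subset (U := (⊤ : (f.fiber y).Opens)) (x := x) trivial
  haveI : IsNoetherianRing Γ(f.fiber y, U) := IsLocallyNoetherian.component_noetherian ⟨U, hU⟩
  haveI : IsLocallyNoetherian U.toScheme := isLocallyNoetherian_of_isOpenImmersion U.ι
  haveI : CompactSpace U.toScheme := isCompact_iff_compactSpace.mp hU.isCompact
  haveI : IsNoetherian U.toScheme := {}
  exact ⟨(U : Set ↥(f.fiber y)), U.isOpen.mem_nhds hxU, (inferInstance : NoetherianSpace U.toScheme)⟩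

variable {R : Type u} [CommRing R] [IsDomain R] {X : Scheme.{u}} (f : X ⟶ Spec (CommRingCat.of R))
  (s : Spec (CommRingCat.of R) ⟶ X) (hs : s ≫ f = 𝟙 _)

set_option backward.isDefEq.respectTransparency false in
include hs in
/-- Over a basic open of an integral affine base the section components are open and closed. -/
theorem exists_clopen [LocallyOfFiniteType f] [QuasiCompact f] :
    ∃ (r : R) (C D : Set X), r ≠ 0 ∧ IsClosed C ∧ IsClosed D ∧
      (∀ x : X, r ∉ (f x : PrimeSpectrum R).asIdeal → x ∈ C ∪ D) ∧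
      (∀ x : X, r ∉ (f x : PrimeSpectrum R).asIdeal → x ∈ C → x ∉ D) ∧
      (∀ x : X, r ∉ (f x : PrimeSpectrum R).asIdeal → (x ∈ MoreMor.sectionComponents f s ↔ x ∈ C)) := by
  let η : ↥(Spec (CommRingCat.of R)) := (⊥ : PrimeSpectrum R)
  have hfs : ∀ z, f (s z) = z := fun z => by rw [← Scheme.Hom.comp_apply, hs]; rfl
  have hη : ∀ z : ↥(Spec (CommRingCat.of R)), η ⤳ z := fun z =>
    (PrimeSpectrum.le_iff_specializes (⊥ : PrimeSpectrum R) z).mp bot_le
  set F : Set X := f ⁻¹' {η} with hF
  set C₀ := connectedComponentIn F (s η) with hC₀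
  haveI := locallyConnectedSpace_fiber f η
  have hemb := (f.fiberι η).isEmbedding
  obtain ⟨u₀, hu₀⟩ := (f.range_fiberι η).ge (show s η ∈ F from hfs η)
  have himg : C₀ = f.fiberι η '' connectedComponent u₀ := by
    rw [← connectedComponentIn_univ, image_connectedComponentIn_of_isEmbedding hemb (Set.mem_univ _),
      Set.image_univ, f.range_fiberι, hu₀]
  have hCcl : closure C₀ ∩ F ⊆ C₀ := by
    rintro z ⟨hz, hzF⟩
    obtain ⟨u, rfl⟩ := (f.range_fiberι η).ge hzF
    rw [himg] at hz ⊢
    refine Set.mem_image_of_mem _ ?_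
    rw [← isClosed_connectedComponent.closure_eq]
    rwa [hemb.closure_eq_preimage_closure_image]
  have hDcl : closure (F \ C₀) ∩ F ⊆ F \ C₀ := by
    rintro z ⟨hz, hzF⟩
    refine ⟨hzF, fun hzC => ?_⟩
    obtain ⟨u, rfl⟩ := (f.range_fiberι η).ge hzF
    have hsub : F \ C₀ ⊆ f.fiberι η '' (connectedComponent u₀)ᶜ := by
      rintro w ⟨hwF, hwC⟩
      obtain ⟨v, rfl⟩ := (f.range_fiberι η).ge hwF
      exact Set.mem_image_of_mem _ fun hv => hwC (himg ▸ Set.mem_image_of_mem _ hv)
    have hu : u ∈ closure (connectedComponent u₀)ᶜ := by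
      rw [hemb.closure_eq_preimage_closure_image]
      exact closure_mono hsub hz
    rw [isOpen_connectedComponent.isClosed_compl.closure_eq] at hu
    rw [himg] at hzC
    obtain ⟨v, hv, hvu⟩ := hzC
    exact hu (hemb.injective hvu ▸ hv)
  obtain ⟨r₁, hr₁, hmem₁⟩ := exists_forall_apply_notMem f (isClosed_closure.inter isClosed_closure :
    IsClosed (closure C₀ ∩ closure (F \ C₀))) fun x hx hxη => (hDcl ⟨hx.2, hxη⟩).2 (hCcl ⟨hx.1, hxη⟩)
  obtain ⟨S, r₂, hr₂, hS, -, hcov⟩ := exists_generic_points f
  let C := closure C₀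
  let D := closure (F \ C₀)
  have hcover : ∀ x : X, r₂ ∉ (f x : PrimeSpectrum R).asIdeal → x ∈ C ∪ D := by
    intro x hx
    obtain ⟨ξ, hξ, hxξ⟩ := hcov x hx
    by_cases h : ξ ∈ C₀
    · exact Or.inl (closure_mono (Set.singleton_subset_iff.mpr h) hxξ)
    · exact Or.inr (closure_mono (Set.singleton_subset_iff.mpr (show ξ ∈ F \ C₀ from ⟨hS ξ hξ, h⟩)) hxξ)
  have hsC : ∀ z, s z ∈ C := fun z =>
    closure_mono (Set.singleton_subset_iff.mpr (mem_connectedComponentIn (show s η ∈ F from hfs η))) ((hη z).map s.continuous).mem_closure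
  let I := Scheme.IdealSheafData.vanishingIdeal (X := X) ⟨C, isClosed_closure⟩
  let i := I.subschemeι
  have hr : Set.range i = C := by
    show Set.range I.subschemeι = _
    rw [Scheme.IdealSheafData.range_subschemeι, Scheme.IdealSheafData.coe_support_vanishingIdeal]
    rfl
  haveI : _root_.IsReduced (CommRingCat.of R) := inferInstanceAs (_root_.IsReduced R)
  obtain ⟨σ, hσ⟩ := H17.exists_lift_of_range_subset s i (by
    rintro _ ⟨z, rfl⟩
    rw [hr]; exact hsC z)
  let h := i ≫ f
  have hσh : σ ≫ h = 𝟙 _ := by rw [← Category.assoc, hσ, hs]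
  have hembh := i.isEmbedding.comp (h.fiberι η).isEmbedding
  have hrange : Set.range (i ∘ h.fiberι η) = C₀ := by
    rw [Set.range_comp, h.range_fiberι]
    refine Set.Subset.antisymm ?_ fun z hz => ?_
    · rintro _ ⟨w, hw, rfl⟩
      exact hCcl ⟨hr.le (Set.mem_range_self w), hw⟩
    · obtain ⟨w, rfl⟩ : z ∈ Set.range i := hr ▸ subset_closure hz
      exact ⟨w, connectedComponentIn_subset F (s η) hz, rfl⟩
  haveI : ConnectedSpace ↥(h.fiber η) := by
    rw [connectedSpace_iff_univ]
    refine ⟨?_, ?_⟩
    · obtain ⟨w, hw⟩ : s η ∈ Set.range (i ∘ h.fiberι η) := hrange ▸ mem_connectedComponentIn (show s η ∈ F from hfs η)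
      exact ⟨w, trivial⟩
    · rw [← hembh.isInducing.isPreconnected_image, Set.image_univ, hrange]
      exact isPreconnected_connectedComponentIn
  let t : Spec (CommRingCat.of ((Spec (CommRingCat.of R)).residueField η)) ⟶ h.fiber η :=
    pullback.lift ((Spec (CommRingCat.of R)).fromSpecResidueField η ≫ σ) (𝟙 _)
      (by rw [Category.assoc, hσh, Category.comp_id, Category.id_comp])
  haveI : GeometricallyConnected (t ≫ h.fiberToSpecResidueField η) := by
    rw [show t ≫ h.fiberToSpecResidueField η = 𝟙 _ from pullback.lift_snd _ _ _]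
    refine ⟨geometrically_iff_of_isClosedUnderIsomorphisms.2 fun K _ b => ?_⟩
    let e := asIso (pullback.snd (𝟙 (Spec (CommRingCat.of ((Spec (CommRingCat.of R)).residueField η)))) b)
    exact e.inv.homeomorph.surjective.connectedSpace e.inv.continuous
  have hgc : MoreMor.nGeomConnComp h η = 1 := (geometricallyConnected_fiber_iff h η).mp
    (H06Desc.geometricallyConnected_of_source t (h.fiberToSpecResidueField η))
  obtain ⟨O, hηO, hO⟩ := exists_opens_counts h η
  obtain ⟨_, ⟨r₃, rfl⟩, hη₃, hr₃O⟩ := PrimeSpectrum.isTopologicalBasis_basic_opens.exists_subset_of_mem_open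
    (show η ∈ (O : Set _) from hηO) O.isOpen
  have hr₃ : r₃ ≠ 0 := fun h0 => hη₃ (show r₃ ∈ (⊥ : Ideal R) by simp [h0])
  refine ⟨r₁ * r₂ * r₃, C, D, mul_ne_zero (mul_ne_zero hr₁ hr₂) hr₃, isClosed_closure, isClosed_closure,
    fun x hx => hcover x fun h => hx (Ideal.mul_mem_right _ _ (Ideal.mul_mem_left _ _ h)),
    fun x hx hxC hxD => hx (Ideal.mul_mem_right _ _ (Ideal.mul_mem_right _ _ (hmem₁ x ⟨hxC, hxD⟩))),
    fun x hx => ?_⟩
  have hconn : _root_.IsPreconnected (C ∩ f ⁻¹' {f x}) := by
    have hfO : f x ∈ O := hr₃O fun h => hx (Ideal.mul_mem_left _ _ h)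
    haveI := (geometricallyConnected_fiber_iff h (f x)).mpr ((hO _ hfO (hη _)).2.trans hgc)
    haveI : ConnectedSpace ↥(h.fiber (f x)) := GeometricallyConnected.connectedSpace_of_subsingleton
      (h.fiberToSpecResidueField (f x))
    have : C ∩ f ⁻¹' {f x} = (i ∘ h.fiberι (f x)) '' Set.univ := by
      rw [Set.image_univ, Set.range_comp, h.range_fiberι]
      refine Set.Subset.antisymm ?_ ?_
      · rintro z ⟨hz, hzx⟩
        obtain ⟨w, rfl⟩ : z ∈ Set.range i := hr ▸ hz
        exact ⟨w, hzx, rfl⟩
      · rintro _ ⟨w, hw, rfl⟩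
        exact ⟨hr ▸ Set.mem_range_self w, hw⟩
    rw [this]
    exact isPreconnected_univ.image _ (i.continuous.comp (h.fiberι (f x)).continuous).continuousOn
  have hnot : ∀ z, f z = f x → z ∈ C → z ∉ D := fun z hz hzC hzD =>
    hx (hz ▸ Ideal.mul_mem_right _ _ (Ideal.mul_mem_right _ _ (hmem₁ z ⟨hzC, hzD⟩)))
  constructor
  · intro hmem
    have hsub : connectedComponentIn (f ⁻¹' {f x}) (s (f x)) ⊆ C := by
      have hp : _root_.IsPreconnected (connectedComponentIn (f ⁻¹' {f x}) (s (f x))) := isPreconnected_connectedComponentIn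
      by_contra hne
      obtain ⟨z, hz, hzC⟩ := Set.not_subset.mp hne
      have hzx : f z = f x := connectedComponentIn_subset (f ⁻¹' {f x}) _ hz
      obtain ⟨w, hw, hwC, hwD⟩ := isPreconnected_closed_iff.mp hp C D isClosed_closure isClosed_closure
        (fun w hw => hcover w fun h => hx (by
          rw [← show f w = f x from connectedComponentIn_subset (f ⁻¹' {f x}) _ hw]
          exact Ideal.mul_mem_right _ _ (Ideal.mul_mem_left _ _ h)))
        ⟨s (f x), mem_connectedComponentIn (hfs _), hsC _⟩
        ⟨z, hz, (hcover z fun h => hx (hzx ▸ Ideal.mul_mem_right _ _ (Ideal.mul_mem_left _ _ h))).resolve_left hzC⟩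
      exact hnot w (connectedComponentIn_subset (f ⁻¹' {f x}) _ hw) hwC hwD
    exact hsub hmem
  · intro hxC
    exact hconn.subset_connectedComponentIn ⟨hsC _, hfs _⟩ Set.inter_subset_right ⟨hxC, rfl⟩

end Groth.Agent.H06SecComp
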