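import Groth.Agent.H06SecComp.Idem
import Groth.Agent.H06SecComp.Generic
import Groth.Agent.H06EGA14.DvrBase
import Groth.Agent.H06EGA15.Component
import Groth.Agent.H06Equidim.Basic

/-!
Generizations of components along a section over a discrete valuation ring.
-/

open CategoryTheory CategoryTheory.Limits AlgebraicGeometry TopologicalSpace Topology

universe u

namespace Groth.Agent.H06SecComp

open Groth.Agent.H06EGA14 Groth.Agent.H8Props.FieldDim Groth.Agent.H06Equidim

variable {A : Type u} [CommRing A] [IsDomain A] [IsDiscreteValuationRing A]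
  {Z : Scheme.{u}} (q : Z ⟶ Spec (CommRingCat.of A))

set_option backward.isDefEq.respectTransparency false in
/-- The generizations of `x` over the generic point form a connected set. -/
theorem isConnected_generizations [LocallyOfFiniteType q] (x : Z) (hx : q x = IsLocalRing.closedPoint A)
    (hflat : (q.stalkMap x).hom.Flat) (hred : _root_.IsReduced ((q.fiber (q.base x)).presheaf.stalk (q.asFiber x))) :
    _root_.IsConnected {v : Z | v ⤳ x ∧ q v ≠ q x} := by
  let R := (Spec (CommRingCat.of A)).presheaf.stalk (q x)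
  let S := Z.presheaf.stalk x
  haveI : (q x).asIdeal.IsPrime := (q x).2
  have hu : ∀ a ∈ (q x).asIdeal.primeCompl, IsUnit a := fun a ha => by
    by_contra hn
    exact ha (by
      show a ∈ (q.base x).asIdeal
      rw [hx]; exact hn)
  let e : A ≃+* R := (IsLocalization.atUnits A (q x).asIdeal.primeCompl hu (S := Localization.AtPrime (q x).asIdeal)).toRingEquiv.trans
    (Spec.stalkIso (CommRingCat.of A) (q x)).commRingCatIsoToRingEquiv.symm
  haveI : IsDomain R := e.symm.toMulEquiv.isDomain A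
  haveI : IsDiscreteValuationRing R := IsDiscreteValuationRing.RingEquivClass.isDiscreteValuationRing e
  letI := (q.stalkMap x).hom.toAlgebra
  haveI : Module.Flat R S := hflat
  obtain ⟨ϖ, hϖ⟩ := IsDiscreteValuationRing.exists_irreducible R
  have hI : (IsLocalRing.maximalIdeal R).map (algebraMap R S) = Ideal.span {algebraMap R S ϖ} := by
    rw [hϖ.maximalIdeal_eq, Ideal.map_span, Set.image_singleton]
  have hreg : IsSMulRegular S (algebraMap R S ϖ) := by
    intro a b hab
    exact (Module.Flat.isSMulRegular_of_isRegular (R := R) (M := S)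
      (IsRegular.of_ne_zero hϖ.ne_zero)) (by simpa [Algebra.smul_def] using hab)
  have hrad : (Ideal.span {algebraMap R S ϖ}).IsRadical := by
    rw [← hI, Ideal.isRadical_iff_quotient_reduced]
    exact isReduced_of_injective (H8Props.FibreStalk.asFiberStalkEquiv q x).toRingHom
      (H8Props.FibreStalk.asFiberStalkEquiv q x).injective
  have hset : {v : Z | v ⤳ x ∧ q v ≠ q x} =
      Z.fromSpecStalk x '' (PrimeSpectrum.basicOpen (algebraMap R S ϖ) : Set (PrimeSpectrum S)) := by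
    have key : ∀ P : PrimeSpectrum S, q (Z.fromSpecStalk x P) = q x ↔ algebraMap R S ϖ ∈ P.asIdeal := by
      intro P
      constructor
      · intro h
        have hnat : (Spec (CommRingCat.of A)).fromSpecStalk (q x) (PrimeSpectrum.comap (q.stalkMap x).hom P) =
            q (Z.fromSpecStalk x P) :=
          congrArg (fun φ : Spec (Z.presheaf.stalk x) ⟶ Spec (CommRingCat.of A) => φ P)
            (Scheme.SpecMap_stalkMap_fromSpecStalk q)
        have h2 : PrimeSpectrum.comap (q.stalkMap x).hom P = IsLocalRing.closedPoint R :=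
          ((Spec (CommRingCat.of A)).fromSpecStalk (q x)).isEmbedding.injective
            ((hnat.trans h).trans Scheme.fromSpecStalk_closedPoint.symm)
        exact (congrArg PrimeSpectrum.asIdeal h2).ge
          (show ϖ ∈ IsLocalRing.maximalIdeal R from hϖ.maximalIdeal_eq ▸ Ideal.mem_span_singleton_self ϖ)
      · intro h
        refine fromSpecStalk_mem_fibre q x P ?_
        rw [← Ideal.map_le_iff_le_comap]
        exact hI.le.trans ((Ideal.span_singleton_le_iff_mem _).mpr h)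
    refine Set.Subset.antisymm ?_ ?_
    · rintro v ⟨hv, hne⟩
      obtain ⟨P, rfl⟩ : v ∈ Set.range (Z.fromSpecStalk x) := by rw [Scheme.range_fromSpecStalk]; exact hv
      exact ⟨P, fun h => hne ((key P).mpr h), rfl⟩
    · rintro _ ⟨P, hP, rfl⟩
      refine ⟨?_, fun h => hP ((key P).mp h)⟩
      have : Z.fromSpecStalk x P ∈ Set.range (Z.fromSpecStalk x) := ⟨P, rfl⟩
      rwa [Scheme.range_fromSpecStalk] at this
  rw [hset]
  exact (isConnected_basicOpen_of_isRadical (algebraMap R S ϖ) hreg hrad).image _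
    (Z.fromSpecStalk x).continuous.continuousOn

variable (σ : Spec (CommRingCat.of A) ⟶ Z) (hσ : σ ≫ q = 𝟙 _) (W : Z.Opens)

set_option backward.isDefEq.respectTransparency false in
include hσ in
/-- Points over the generic point specializing to the component along the section lie in the component. -/
theorem mem_component_of_generization_dvr [LocallyOfFiniteType q]
    (hW : σ (IsLocalRing.closedPoint A) ∈ W)
    (h : ∀ x ∈ connectedComponentIn ((W : Set Z) ∩ q ⁻¹' {IsLocalRing.closedPoint A}) (σ (IsLocalRing.closedPoint A)),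
      EGA43.IsOpenAt q.base x ∧ _root_.IsReduced ((q.fiber (q.base x)).presheaf.stalk (q.asFiber x)))
    {x v : Z} (hx : x ∈ connectedComponentIn ((W : Set Z) ∩ q ⁻¹' {IsLocalRing.closedPoint A}) (σ (IsLocalRing.closedPoint A)))
    (hv : v ⤳ x) (hvb : (q v).asIdeal = ⊥) :
    v ∈ connectedComponentIn ((W : Set Z) ∩ q ⁻¹' {q v}) (σ (q v)) := by
  let c : ↥(Spec (CommRingCat.of A)) := IsLocalRing.closedPoint A
  let b : ↥(Spec (CommRingCat.of A)) := (⊥ : PrimeSpectrum A)
  have hvb' : q v = b := PrimeSpectrum.ext hvb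
  rw [hvb']
  have hqσ : ∀ t, q (σ t) = t := H06EGA15.f_g_apply q σ hσ
  set T := connectedComponentIn ((W : Set Z) ∩ q ⁻¹' {c}) (σ c) with hT
  set Γ₀ := connectedComponentIn ((W : Set Z) ∩ q ⁻¹' {b}) (σ b)
  let G : Z → Set Z := fun w => {u : Z | u ⤳ w ∧ q u ≠ q w}
  have hbc : b ≠ c := fun h => closedPoint_asIdeal_ne_bot (congrArg PrimeSpectrum.asIdeal h).symm
  have hTsub : T ⊆ (W : Set Z) ∩ q ⁻¹' {c} := connectedComponentIn_subset _ _
  have hgen : ∀ w ∈ T, ∀ z, z ⤳ w → q z = c → z ∈ T := by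
    intro w hw z hz hzc
    have hzF : z ∈ (W : Set Z) ∩ q ⁻¹' {c} := ⟨hz.mem_open W.isOpen (hTsub hw).1, hzc⟩
    rw [hT, connectedComponentIn_eq hw, ← H06EGA15.connectedComponentIn_eq_of_specializes hzF (hTsub hw) hz]
    exact mem_connectedComponentIn hzF
  have hconn : ∀ w ∈ T, _root_.IsConnected (G w) := by
    intro w hw
    have hwc : q w = c := (hTsub hw).2
    exact isConnected_generizations q w hwc (flat_stalkMap_of_isOpenAt q w hwc
      (fun z hz hzq _ => (h z (hgen w hw z hz (hzq.trans hwc))).1) (h w hw).2) (h w hw).2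
  have hGsub : ∀ w ∈ T, G w ⊆ (W : Set Z) ∩ q ⁻¹' {b} := by
    rintro w hw u ⟨hu, hne⟩
    refine ⟨hu.mem_open W.isOpen (hTsub hw).1, ?_⟩
    rcases dvr_point_cases (q u) with h1 | h1
    · exact absurd (h1.trans (show c = q w from ((hTsub hw).2 : q w = c).symm)) hne
    · exact PrimeSpectrum.ext h1
  have hgood : ∀ w ∈ T, (G w ∩ Γ₀).Nonempty → G w ⊆ Γ₀ := by
    rintro w hw ⟨u, hu, huΓ⟩
    rw [show Γ₀ = connectedComponentIn ((W : Set Z) ∩ q ⁻¹' {b}) u from connectedComponentIn_eq huΓ]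
    exact (hconn w hw).isPreconnected.subset_connectedComponentIn hu (hGsub w hw)
  have hsp : ∀ w ∈ T, ∀ z ∈ T, z ⤳ w → (G w ⊆ Γ₀ ↔ G z ⊆ Γ₀) := by
    intro w hw z hz hzw
    have hsub : G z ⊆ G w := fun u hu => ⟨hu.1.trans hzw, by
      rw [show q w = c from (hTsub hw).2, ← show q z = c from (hTsub hz).2]; exact hu.2⟩
    refine ⟨fun h => hsub.trans h, fun h => hgood w hw ?_⟩
    obtain ⟨u, hu⟩ := (hconn z hz).nonempty
    exact ⟨u, hsub hu, h hu⟩
  haveI : LocallyOfFiniteType (q.fiberToSpecResidueField c) := H8Props.FieldDim.locallyOfFiniteType_fiberToSpec q c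
  haveI : IsNoetherianRing (CommRingCat.of ((Spec (CommRingCat.of A)).residueField c)) :=
    inferInstanceAs (IsNoetherianRing ((Spec (CommRingCat.of A)).residueField c))
  haveI : IsLocallyNoetherian (q.fiber c) := LocallyOfFiniteType.isLocallyNoetherian (q.fiberToSpecResidueField c)
  have hloc : ∀ w ∈ T, ∃ U : Set Z, IsOpen U ∧ w ∈ U ∧ ∀ z ∈ U, z ∈ T → (G z ⊆ Γ₀ ↔ G w ⊆ Γ₀) := by
    intro w hw
    obtain ⟨w', rfl⟩ := (q.range_fiberι c).ge (show w ∈ q ⁻¹' {c} from (hTsub hw).2)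
    obtain ⟨U', hw', -, hU'⟩ := H06Equidim.exists_nhd_components_mem w' ⊤ trivial
    obtain ⟨U, hU, hUeq⟩ := (q.fiberι c).isEmbedding.isInducing.isOpen_iff.mp U'.isOpen
    refine ⟨U, hU, hUeq.ge hw', fun z hzU hz => ?_⟩
    obtain ⟨z', rfl⟩ := (q.range_fiberι c).ge (show z ∈ q ⁻¹' {c} from (hTsub hz).2)
    have hz'U : z' ∈ U' := hUeq.le hzU
    obtain ⟨η, hη, hcomp⟩ := exists_component_generization z'
    have hmax : ∀ ζ, ζ ⤳ η → ζ = η := by
      intro ζ hζ
      obtain ⟨η', hη', hmax'⟩ := mem_irreducibleComponents_iff hcomp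
      obtain rfl : η' = η := ((specializes_iff_mem_closure.mpr (hη'.le (subset_closure rfl))).antisymm
        (specializes_iff_mem_closure.mpr (hη'.ge (subset_closure rfl)))).eq
      exact hmax' ζ hζ
    have hηw := hU' η (hη.mem_open U'.isOpen hz'U) hmax
    have hηT : q.fiberι c η ∈ T := hgen _ hz _ (hη.map (q.fiberι c).continuous)
      ((q.range_fiberι c).le ⟨η, rfl⟩)
    exact (hsp _ hz _ hηT (hη.map (q.fiberι c).continuous)).trans
      (hsp _ hw _ hηT (hηw.map (q.fiberι c).continuous)).symm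
  choose! U hUo hwU hU using hloc
  have hσc : σ c ∈ T := mem_connectedComponentIn ⟨hW, hqσ c⟩
  have hσgood : G (σ c) ⊆ Γ₀ := by
    have hbs : σ b ⤳ σ c := ((PrimeSpectrum.le_iff_specializes (⊥ : PrimeSpectrum A) c).mp bot_le).map σ.continuous
    refine hgood _ hσc ⟨σ b, ⟨hbs, by rw [hqσ, hqσ]; exact hbc⟩, mem_connectedComponentIn ⟨hbs.mem_open W.isOpen hW, hqσ b⟩⟩
  have hall : G x ⊆ Γ₀ := by
    by_contra hbad
    obtain ⟨z, hzT, hz1, hz2⟩ := (isPreconnected_connectedComponentIn : _root_.IsPreconnected T)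
      (⋃ w ∈ {w ∈ T | G w ⊆ Γ₀}, U w) (⋃ w ∈ {w ∈ T | ¬ G w ⊆ Γ₀}, U w)
      (isOpen_biUnion fun w hw => hUo w hw.1) (isOpen_biUnion fun w hw => hUo w hw.1)
      (fun w hw => by
        by_cases hg : G w ⊆ Γ₀
        · exact Or.inl (Set.mem_biUnion (show w ∈ {w ∈ T | G w ⊆ Γ₀} from ⟨hw, hg⟩) (hwU w hw))
        · exact Or.inr (Set.mem_biUnion (show w ∈ {w ∈ T | ¬ G w ⊆ Γ₀} from ⟨hw, hg⟩) (hwU w hw)))
      ⟨σ c, hσc, Set.mem_biUnion (show σ c ∈ {w ∈ T | G w ⊆ Γ₀} from ⟨hσc, hσgood⟩) (hwU _ hσc)⟩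
      ⟨x, hx, Set.mem_biUnion (show x ∈ {w ∈ T | ¬ G w ⊆ Γ₀} from ⟨hx, hbad⟩) (hwU _ hx)⟩
    obtain ⟨w₁, hw₁, hzU₁⟩ := Set.mem_iUnion₂.mp hz1
    obtain ⟨w₂, hw₂, hzU₂⟩ := Set.mem_iUnion₂.mp hz2
    exact hw₂.2 ((hU w₂ hw₂.1 z hzU₂ hzT).mp ((hU w₁ hw₁.1 z hzU₁ hzT).mpr hw₁.2))
  exact hall ⟨hv, by rw [hvb', show q x = c from (hTsub hx).2]; exact hbc⟩

end Groth.Agent.H06SecComp
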