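import Groth.Agent.H06SecComp.General
import Groth.Agent.H06SecComp.BaseChange
import Groth.Agent.H06SecComp.DvrGeneral
import Groth.Agent.H06EGA15.DimConst
import Groth.Agent.H28Top.Noeth

/-!
Interior of the section components over a locally Noetherian base.
-/

open CategoryTheory CategoryTheory.Limits AlgebraicGeometry TopologicalSpace Topology

universe u

namespace Groth.Agent.H06SecComp

open Groth.Agent.H06EGA14

variable {X Y : Scheme.{u}} (f : X ⟶ Y) (g : Y ⟶ X) (hg : g ≫ f = 𝟙 Y)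

theorem isGeomReducedAt_of_fiberι {x : X} (h : FBase.IsGeomReducedAt (f.fiberToSpecResidueField (f.base x)) (f.asFiber x))
    (y : Y) (v : ↥(f.fiber y)) (hv : f.fiberι y v = x) :
    FBase.IsGeomReducedAt (f.fiberToSpecResidueField y) v := by
  obtain rfl : f x = y := hv ▸ (f.range_fiberι y).le (Set.mem_range_self v)
  obtain rfl : v = f.asFiber x := (f.fiberι _).isEmbedding.injective (hv.trans (f.fiberι_asFiber _).symm)
  exact h

set_option backward.isDefEq.respectTransparency false in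
include hg in
/-- Generizations of points of the component along a section lie in the components along the section. -/
theorem mem_component_of_generization [IsLocallyNoetherian Y] [LocallyOfFiniteType f] (W : X.Opens) (y : Y)
    (hW : g y ∈ W)
    (h : ∀ x ∈ connectedComponentIn ((W : Set X) ∩ f.base ⁻¹' {y}) (g.base y), EGA43.IsUnivOpenAt f x ∧
      FBase.IsGeomReducedAt (f.fiberToSpecResidueField (f.base x)) (f.asFiber x))
    {x z : X} (hx : x ∈ connectedComponentIn ((W : Set X) ∩ f.base ⁻¹' {y}) (g.base y)) (hz : z ⤳ x) :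
    z ∈ connectedComponentIn ((W : Set X) ∩ f.base ⁻¹' {f z}) (g.base (f z)) := by
  have hfg := H06EGA15.f_g_apply f g hg
  have hxF : x ∈ (W : Set X) ∩ f ⁻¹' {y} := connectedComponentIn_subset _ _ hx
  by_cases hzy : f z = y
  · have hzF : z ∈ (W : Set X) ∩ f ⁻¹' {y} := ⟨hz.mem_open W.isOpen hxF.1, hzy⟩
    rw [hzy, connectedComponentIn_eq hx, ← H06EGA15.connectedComponentIn_eq_of_specializes hzF hxF hz]
    exact mem_connectedComponentIn hzF
  haveI : IsLocallyNoetherian X := LocallyOfFiniteType.isLocallyNoetherian f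
  have hne : x ≠ z := fun h => hzy (h ▸ hxF.2)
  obtain ⟨A, h₀, hA, hc, hgen⟩ := H11Val.exists_dvr_hom_through (𝟙 X) z x hz hne
  haveI := hA
  let b : ↥(Spec (CommRingCat.of A)) := (⊥ : PrimeSpectrum A)
  let c : ↥(Spec (CommRingCat.of A)) := IsLocalRing.closedPoint A
  have hb : h₀ b = z := by
    have e : Spec.map (CommRingCat.ofHom A.subtype) (IsLocalRing.closedPoint (X.residueField z)) = b := by
      refine PrimeSpectrum.ext ?_
      show Ideal.comap A.subtype (IsLocalRing.maximalIdeal (X.residueField z)) = ⊥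
      rw [IsLocalRing.maximalIdeal_eq_bot]
      exact Ideal.comap_bot_of_injective _ A.subtype_injective
    rw [← e, ← Scheme.Hom.comp_apply, hgen, Category.comp_id]
    exact Scheme.fromSpecResidueField_apply z _
  let k := h₀ ≫ f
  have hkc : k c = y := by
    rw [Scheme.Hom.comp_apply, show h₀ c = x from hc]; exact hxF.2
  have hkb : k b = f z := by rw [Scheme.Hom.comp_apply, hb]
  obtain rfl : k c = y := hkc
  let p := pullback.fst f k
  let q := pullback.snd f k
  let g' : Spec (CommRingCat.of A) ⟶ pullback f k := pullback.lift (k ≫ g) (𝟙 _)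
    (by rw [Category.assoc, hg, Category.comp_id, Category.id_comp])
  let ξ : Spec (CommRingCat.of A) ⟶ pullback f k := pullback.lift h₀ (𝟙 _) (Category.id_comp _).symm
  have hpg : ∀ t, p (g' t) = g (k t) := fun t => by
    rw [← Scheme.Hom.comp_apply, pullback.lift_fst, Scheme.Hom.comp_apply]
  have hqg : ∀ t, q (g' t) = t := fun t => by rw [← Scheme.Hom.comp_apply, pullback.lift_snd]; rfl
  have hpξ : ∀ t, p (ξ t) = h₀ t := fun t => by rw [← Scheme.Hom.comp_apply, pullback.lift_fst]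
  have hqξ : ∀ t, q (ξ t) = t := fun t => by rw [← Scheme.Hom.comp_apply, pullback.lift_snd]; rfl
  have hfp : ∀ w, f (p w) = k (q w) := fun w => by
    rw [← Scheme.Hom.comp_apply, pullback.condition, Scheme.Hom.comp_apply]
  let W' : (pullback f k).Opens := p ⁻¹ᵁ W
  have hW' : g' c ∈ W' := by show p (g' c) ∈ W; rw [hpg]; exact hW
  set C := connectedComponentIn ((W : Set X) ∩ f ⁻¹' {k c}) (g (k c))
  set T := connectedComponentIn ((W' : Set ↥(pullback f k)) ∩ q ⁻¹' {c}) (g' c) with hT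
  have hTC : ∀ t ∈ T, p t ∈ C := by
    intro t ht
    refine (isPreconnected_connectedComponentIn.image p p.continuous.continuousOn).subset_connectedComponentIn
      ⟨g' c, mem_connectedComponentIn (show g' c ∈ (W' : Set ↥(pullback f k)) ∩ q ⁻¹' {c} from ⟨hW', hqg c⟩), hpg c⟩ ?_ ⟨t, ht, rfl⟩
    rintro _ ⟨w, hw, rfl⟩
    obtain ⟨hwW, hwc⟩ := connectedComponentIn_subset _ _ hw
    exact ⟨hwW, (hfp w).trans (congrArg k hwc)⟩
  have hxT : ξ c ∈ T := by
    refine (isPreconnected_preimage_component f g hg W k c hW).subset_connectedComponentIn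
      ⟨show p (g' c) ∈ C by rw [hpg]; exact mem_connectedComponentIn ⟨hW, hfg _⟩, hqg c⟩ ?_ ⟨?_, hqξ c⟩
    · rintro w ⟨hwC, hwc⟩
      exact ⟨(connectedComponentIn_subset _ _ hwC).1, hwc⟩
    · show p (ξ c) ∈ C
      rw [hpξ, show h₀ c = x from hc]; exact hx
  have key := mem_component_of_generization_dvr q g' (pullback.lift_snd _ _ _) W' hW'
    (fun t ht => ⟨(h (p t) (hTC t ht)).1 _ k t rfl, by
      obtain ⟨v, hv⟩ := (f.range_fiberι (k (q t))).ge (show p t ∈ f ⁻¹' {k (q t)} from hfp t)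
      refine H06EGA15.isReduced_stalk_fiber_of_isGeomReducedAt f k _ (q.asFiber t) v ?_
        (isGeomReducedAt_of_fiberι f (h (p t) (hTC t ht)).2 _ v hv)
      show p (q.fiberι _ (q.asFiber t)) = _
      rw [q.fiberι_asFiber, hv]⟩) hxT (v := ξ b)
    (((PrimeSpectrum.le_iff_specializes (⊥ : PrimeSpectrum A) c).mp bot_le).map ξ.continuous)
    (show (q (ξ b)).asIdeal = ⊥ by rw [hqξ]; rfl)
  rw [hqξ] at key
  rw [← hkb]
  refine (isPreconnected_connectedComponentIn.image p p.continuous.continuousOn).subset_connectedComponentIn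
    ⟨g' b, mem_connectedComponentIn (show g' b ∈ (W' : Set ↥(pullback f k)) ∩ q ⁻¹' {b} from
      ⟨(((PrimeSpectrum.le_iff_specializes (⊥ : PrimeSpectrum A) c).mp bot_le).map g'.continuous).mem_open W'.isOpen hW', hqg b⟩),
      hpg b⟩ ?_ ⟨ξ b, key, by rw [hpξ, hb]⟩
  · rintro _ ⟨w, hw, rfl⟩
    obtain ⟨hwW, hwc⟩ := connectedComponentIn_subset _ _ hw
    exact ⟨hwW, (hfp w).trans (congrArg k hwc)⟩

include hg in
/-- Over a Noetherian base the section components are constructible. -/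
theorem isConstructible_sectionComponents [IsNoetherian Y] [LocallyOfFiniteType f] [QuasiCompact f] :
    IsConstructible (MoreMor.sectionComponents f g) := by
  haveI : IsLocallyNoetherian X := LocallyOfFiniteType.isLocallyNoetherian f
  haveI : CompactSpace X := QuasiCompact.compactSpace_of_compactSpace f
  haveI : IsNoetherian X := {}
  refine H28Top.isConstructible_of_forall_irreducible fun T hT hirr hdense => ?_
  have hz := hirr.isGenericPoint_genericPoint hT
  obtain ⟨O, C, D, hyO, hC, hD, hcov, hdisj, hmem⟩ := exists_clopen_closure f g hg (f hirr.genericPoint)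
  have hsp : ∀ w ∈ T, f hirr.genericPoint ⤳ f w := fun w hw => (hz.specializes hw).map f.continuous
  obtain ⟨w, hwO, hwE, hwT⟩ := mem_closure_iff.1 (hdense hz.mem) (f ⁻¹ᵁ O : Set X) (f ⁻¹ᵁ O).isOpen hyO
  refine ⟨(f ⁻¹ᵁ O : Set X) ∩ Dᶜ, (f ⁻¹ᵁ O).isOpen.inter hD.isOpen_compl,
    ⟨hirr.genericPoint, ⟨hyO, fun hzD => ?_⟩, hz.mem⟩, ?_⟩
  · exact hdisj w hwO (hsp w hwT) ((hmem w hwO (hsp w hwT)).mp hwE) ((hz.specializes hwT).mem_closed hD hzD)
  · rintro v ⟨⟨hvO, hvD⟩, hvT⟩
    exact (hmem v hvO (hsp v hvT)).mpr ((hcov v hvO (hsp v hvT)).resolve_right hvD)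

include hg in
/-- Points of a component along a section are joined to the section inside quasi-compact opens. -/
theorem exists_compact_open_component [LocallyOfFiniteType f] (y : Y) {x : X}
    (hx : x ∈ connectedComponentIn (f.base ⁻¹' {y}) (g.base y)) :
    ∃ W : X.Opens, IsCompact (W : Set X) ∧ g y ∈ W ∧
      x ∈ connectedComponentIn ((W : Set X) ∩ f.base ⁻¹' {y}) (g.base y) := by
  have hfg : f (g y) = y := H06EGA15.f_g_apply f g hg y
  let R : X → Prop := fun a => ∃ W : X.Opens, IsCompact (W : Set X) ∧ g y ∈ W ∧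
      a ∈ connectedComponentIn ((W : Set X) ∩ f ⁻¹' {y}) (g y)
  haveI := locallyConnectedSpace_fiber f y
  have hloc : ∀ w ∈ f ⁻¹' {y}, ∃ N : Set X, IsOpen N ∧ w ∈ N ∧
      ∀ a ∈ N, a ∈ f ⁻¹' {y} → (R a → R w) ∧ (R w → R a) := by
    intro w hw
    obtain ⟨U, hU, hwU, -⟩ := exists_isAffineOpen_mem_and_subset (U := (⊤ : X.Opens)) (x := w) trivial
    obtain ⟨w', rfl⟩ := (f.range_fiberι y).ge hw
    obtain ⟨N, hN, hNeq⟩ := (f.fiberι y).isEmbedding.isInducing.isOpen_iff.mp
      ((U.isOpen.preimage (f.fiberι y).continuous).connectedComponentIn (x := w'))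
    refine ⟨N, hN, hNeq.ge (mem_connectedComponentIn hwU), fun a ha haF => ?_⟩
    set Cw := connectedComponentIn ((U : Set X) ∩ f ⁻¹' {y}) (f.fiberι y w')
    have hwF : f.fiberι y w' ∈ (U : Set X) ∩ f ⁻¹' {y} := ⟨hwU, hw⟩
    have haC : a ∈ Cw := by
      obtain ⟨a', rfl⟩ := (f.range_fiberι y).ge haF
      have h1 : f.fiberι y a' ∈ f.fiberι y '' connectedComponentIn ((f.fiberι y) ⁻¹' (U : Set X)) w' :=
        ⟨a', hNeq.le ha, rfl⟩
      rw [image_connectedComponentIn_of_isEmbedding (f.fiberι y).isEmbedding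
        (show w' ∈ f.fiberι y ⁻¹' (U : Set X) from hwU),
        Set.image_preimage_eq_inter_range, f.range_fiberι] at h1
      exact h1
    have key : ∀ a₁ ∈ Cw, ∀ a₂ ∈ Cw, R a₁ → R a₂ := by
      rintro a₁ ha₁ a₂ ha₂ ⟨W, hWc, hgW, haW⟩
      refine ⟨W ⊔ U, hWc.union hU.isCompact, Or.inl hgW, ?_⟩
      have h1 : connectedComponentIn ((W : Set X) ∩ f ⁻¹' {y}) (g y) ∪ Cw ⊆ ((W ⊔ U : X.Opens) : Set X) ∩ f ⁻¹' {y} := by
        rintro v (hv | hv)
        · exact ⟨Or.inl (connectedComponentIn_subset _ _ hv).1, (connectedComponentIn_subset _ _ hv).2⟩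
        · exact ⟨Or.inr (connectedComponentIn_subset _ _ hv).1, (connectedComponentIn_subset _ _ hv).2⟩
      exact (isPreconnected_connectedComponentIn.union a₁ haW ha₁
        isPreconnected_connectedComponentIn).subset_connectedComponentIn
          (Or.inl (mem_connectedComponentIn ⟨hgW, hfg⟩)) h1 (Or.inr ha₂)
    exact ⟨key a haC _ (mem_connectedComponentIn hwF), key _ (mem_connectedComponentIn hwF) a haC⟩
  choose! N hNo hwN hN using hloc
  have hRg : R (g y) := by
    obtain ⟨U, hU, hgU, -⟩ := exists_isAffineOpen_mem_and_subset (U := (⊤ : X.Opens)) (x := g y) trivial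
    exact ⟨U, hU.isCompact, hgU, mem_connectedComponentIn ⟨hgU, hfg⟩⟩
  by_contra hbad
  have hsub := connectedComponentIn_subset (f ⁻¹' {y}) (g y)
  obtain ⟨z, hzT, hz1, hz2⟩ := (isPreconnected_connectedComponentIn :
      _root_.IsPreconnected (connectedComponentIn (f ⁻¹' {y}) (g y)))
    (⋃ w ∈ {w ∈ f ⁻¹' {y} | R w}, N w) (⋃ w ∈ {w ∈ f ⁻¹' {y} | ¬ R w}, N w)
    (isOpen_biUnion fun w hw => hNo w hw.1) (isOpen_biUnion fun w hw => hNo w hw.1)
    (fun w hw => by
      by_cases hg : R w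
      · exact Or.inl (Set.mem_biUnion (show w ∈ {w ∈ f ⁻¹' {y} | R w} from ⟨hsub hw, hg⟩) (hwN w (hsub hw)))
      · exact Or.inr (Set.mem_biUnion (show w ∈ {w ∈ f ⁻¹' {y} | ¬ R w} from ⟨hsub hw, hg⟩) (hwN w (hsub hw))))
    ⟨g y, mem_connectedComponentIn hfg,
      Set.mem_biUnion (show g y ∈ {w ∈ f ⁻¹' {y} | R w} from ⟨hfg, hRg⟩) (hwN _ hfg)⟩
    ⟨x, hx, Set.mem_biUnion (show x ∈ {w ∈ f ⁻¹' {y} | ¬ R w} from ⟨hsub hx, hbad⟩) (hwN _ (hsub hx))⟩
  obtain ⟨w₁, hw₁, hzU₁⟩ := Set.mem_iUnion₂.mp hz1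
  obtain ⟨w₂, hw₂, hzU₂⟩ := Set.mem_iUnion₂.mp hz2
  exact hw₂.2 ((hN w₂ hw₂.1 z hzU₂ (hsub hzT)).1 ((hN w₁ hw₁.1 z hzU₁ (hsub hzT)).2 hw₁.2))

set_option backward.isDefEq.respectTransparency false in
include hg in
/-- A component along a section with universal openness and geometrically reduced fibre lies in the interior
of the section components. -/
theorem mem_interior_sectionComponents [IsLocallyNoetherian Y] [LocallyOfFiniteType f] (y : Y)
    (h : ∀ x ∈ connectedComponentIn (f.base ⁻¹' {y}) (g.base y), EGA43.IsUnivOpenAt f x ∧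
      FBase.IsGeomReducedAt (f.fiberToSpecResidueField (f.base x)) (f.asFiber x))
    {x : X} (hx : x ∈ connectedComponentIn (f.base ⁻¹' {y}) (g.base y)) :
    x ∈ interior (MoreMor.sectionComponents f g) := by
  haveI : IsLocallyNoetherian X := LocallyOfFiniteType.isLocallyNoetherian f
  obtain ⟨W, hWc, hgW, hxW⟩ := exists_compact_open_component f g hg y hx
  obtain ⟨(V : Y.Opens), (hV : IsAffineOpen V), hyV, hVW⟩ := Opens.isBasis_iff_nbhd.mp Y.isBasis_affineOpens
    (show y ∈ g ⁻¹ᵁ W from hgW)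
  let W' : X.Opens := W ⊓ f ⁻¹ᵁ V
  have hW'eq : (W' : Set X) ∩ f ⁻¹' {y} = (W : Set X) ∩ f ⁻¹' {y} :=
    Set.Subset.antisymm (fun w hw => ⟨hw.1.1, hw.2⟩)
      (fun w hw => ⟨⟨hw.1, show f w ∈ V from (show f w = y from hw.2) ▸ hyV⟩, hw.2⟩)
  have e : W' ≤ f ⁻¹ᵁ V := inf_le_right
  have e' : V ≤ g ⁻¹ᵁ W' := fun v hv => ⟨hVW hv, show f (g v) ∈ V by rw [H06EGA15.f_g_apply f g hg v]; exact hv⟩
  let f' := f.resLE V W' e
  let g' := g.resLE W' V e'
  have hg' : g' ≫ f' = 𝟙 V.toScheme := by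
    rw [← cancel_mono V.ι]
    simp [f', g', Scheme.Hom.resLE_comp_ι, Scheme.Hom.resLE_comp_ι_assoc, hg]
  haveI : IsNoetherianRing Γ(Y, V) := IsLocallyNoetherian.component_noetherian ⟨V, hV⟩
  haveI : IsLocallyNoetherian V.toScheme := isLocallyNoetherian_of_isOpenImmersion V.ι
  haveI : IsAffine V.toScheme := hV
  haveI : IsNoetherian V.toScheme := {}
  haveI : IsLocallyNoetherian W.toScheme := isLocallyNoetherian_of_isOpenImmersion W.ι
  haveI : CompactSpace W.toScheme := isCompact_iff_compactSpace.mp hWc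
  haveI : IsNoetherian W.toScheme := {}
  haveI : CompactSpace W'.toScheme := by
    refine isCompact_iff_compactSpace.mp ?_
    have h1 : IsCompact (W.ι ⁻¹' (W' : Set X)) := NoetherianSpace.isCompact _
    have h2 := h1.image W.ι.continuous
    rwa [Set.image_preimage_eq_inter_range, Scheme.Opens.range_ι,
      Set.inter_eq_left.mpr (show (W' : Set X) ⊆ W from fun w hw => hw.1)] at h2
  haveI : IsLocallyNoetherian W'.toScheme := isLocallyNoetherian_of_isOpenImmersion W'.ι
  haveI : IsNoetherian W'.toScheme := {}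
  haveI : QuasiCompact f' := (quasiCompact_iff_compactSpace f').mpr inferInstance
  have himg : ∀ w : W'.toScheme, (w ∈ MoreMor.sectionComponents f' g' ↔
      W'.ι w ∈ connectedComponentIn ((W' : Set X) ∩ f ⁻¹' {f (W'.ι w)}) (g (f (W'.ι w)))) := by
    intro w
    have hι : ∀ v, V.ι (f' v) = f (W'.ι v) := fun v => by
      rw [← Scheme.Hom.comp_apply, Scheme.Hom.resLE_comp_ι, Scheme.Hom.comp_apply]
    have hgι : W'.ι (g' (f' w)) = g (f (W'.ι w)) := by
      rw [← Scheme.Hom.comp_apply, Scheme.Hom.resLE_comp_ι, Scheme.Hom.comp_apply, hι]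
    have hset : W'.ι '' (f' ⁻¹' {f' w}) = (W' : Set X) ∩ f ⁻¹' {f (W'.ι w)} := by
      refine Set.Subset.antisymm ?_ ?_
      · rintro _ ⟨v, hv, rfl⟩
        exact ⟨W'.range_ι.le (Set.mem_range_self v), (hι v).symm.trans ((congrArg V.ι hv).trans (hι w))⟩
      · rintro z ⟨hzW, hz⟩
        obtain ⟨v, rfl⟩ := W'.range_ι.ge hzW
        exact ⟨v, V.ι.isOpenEmbedding.injective ((hι v).trans ((show f (W'.ι v) = f (W'.ι w) from hz).trans (hι w).symm)), rfl⟩
    show w ∈ connectedComponentIn (f' ⁻¹' {f' w}) (g' (f' w)) ↔ _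
    rw [← hgι, ← hset, ← image_connectedComponentIn_of_isEmbedding W'.ι.isEmbedding
      (show g' (f' w) ∈ f' ⁻¹' {f' w} from H06EGA15.f_g_apply f' g' hg' _), W'.ι.isEmbedding.injective.mem_set_image]
  have hxW' : x ∈ W' := ⟨(connectedComponentIn_subset _ _ hxW).1, show f x ∈ V from
    (show f x = y from connectedComponentIn_subset (f ⁻¹' {y}) _ hx) ▸ hyV⟩
  obtain ⟨x', rfl⟩ := W'.range_ι.ge hxW'
  have hfx : f (W'.ι x') = y := connectedComponentIn_subset (f ⁻¹' {y}) _ hx
  have hnhds : MoreMor.sectionComponents f' g' ∈ 𝓝 x' := by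
    refine H28Top.mem_nhds_of_forall_irreducible (isConstructible_sectionComponents f' g' hg') fun T hT hirr hxT => ?_
    have hz := hirr.isGenericPoint_genericPoint hT
    have hgW' : g y ∈ W' := e' hyV
    have hzE : hirr.genericPoint ∈ MoreMor.sectionComponents f' g' := by
      rw [himg]
      refine mem_component_of_generization f g hg W' y hgW'
        (fun a ha => h a (connectedComponentIn_mono _ Set.inter_subset_right ha)) ?_
        ((hz.specializes hxT).map W'.ι.continuous)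
      rw [hW'eq]
      exact hxW
    intro a ha
    exact closure_mono (Set.singleton_subset_iff.mpr (show hirr.genericPoint ∈ MoreMor.sectionComponents f' g' ∩ T from ⟨hzE, hz.mem⟩))
      (hz.specializes ha).mem_closure
  obtain ⟨U, hU, hUo, hxU⟩ := mem_nhds_iff.mp hnhds
  refine mem_interior.mpr ⟨W'.ι '' U, ?_, W'.ι.isOpenEmbedding.isOpenMap U hUo, ⟨x', hxU, rfl⟩⟩
  rintro _ ⟨w, hw, rfl⟩
  exact connectedComponentIn_mono _ Set.inter_subset_right ((himg w).mp (hU hw))

end Groth.Agent.H06SecComp
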