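import Groth.Agent.H06SecComp.BaseChange
import Groth.Agent.H06SecComp.Interior
import Groth.Agent.H06EGA15.DimConst

/-!
Descent of geometric properties of components along a section to a model.
-/

open CategoryTheory CategoryTheory.Limits AlgebraicGeometry TopologicalSpace Topology

universe u

namespace Groth.Agent.H06SecComp

/-- The point of the spectrum of a field is the whole scheme. -/
theorem isIso_fromSpecResidueField_field {K : Type u} [Field K] (t : ↥(Spec (CommRingCat.of K))) :
    IsIso ((Spec (CommRingCat.of K)).fromSpecResidueField t) := by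
  haveI : IsReduced (Spec (CommRingCat.of K)) := inferInstance
  rw [← Scheme.Spec.map_residueFieldIso_inv_eq_fromSpecResidueField]
  haveI : IsIso (CommRingCat.ofHom (algebraMap K (PrimeSpectrum.asIdeal t).ResidueField)) := by
    rw [ConcreteCategory.isIso_iff_bijective]
    refine ⟨RingHom.injective _, fun b => ?_⟩
    obtain ⟨a, ha⟩ := Ideal.algebraMap_residueField_surjective (I := PrimeSpectrum.asIdeal t) b
    exact ⟨a, ha⟩
  infer_instance

variable {X Y X₀ S : Scheme.{u}} {f : X ⟶ Y} {f₀ : X₀ ⟶ S} {b : Y ⟶ S} {gX : X ⟶ X₀}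
  (hP : IsPullback gX f f₀ b) {g : Y ⟶ X} {g₀ : S ⟶ X₀} (hg : g ≫ f = 𝟙 Y) (hg₀ : g₀ ≫ f₀ = 𝟙 S)
  (hgg : g ≫ gX = b ≫ g₀)

include hP hg hg₀ hgg in
theorem mem_component_iff_of_model (x : X) :
    x ∈ connectedComponentIn (f.base ⁻¹' {f x}) (g.base (f x)) ↔
      gX x ∈ connectedComponentIn (f₀.base ⁻¹' {f₀ (gX x)}) (g₀.base (f₀ (gX x))) := by
  have h : x ∈ MoreMor.sectionComponents f g ↔ x ∈ gX ⁻¹' MoreMor.sectionComponents f₀ g₀ := by
    rw [sectionComponents_baseChange f₀ g₀ hg₀ f gX b hP g hg hgg]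
  exact h

omit hP in
theorem isPullback_map_of_model (hP : IsPullback gX f f₀ b) {T PY : Scheme.{u}} (k₀ : T ⟶ S) (pT : PY ⟶ T)
    (a : PY ⟶ Y) (hPY : pT ≫ k₀ = a ≫ b) (φ : pullback f a ⟶ pullback f₀ k₀)
    (hφ₁ : φ ≫ pullback.fst f₀ k₀ = pullback.fst f a ≫ gX)
    (hφ₂ : φ ≫ pullback.snd f₀ k₀ = pullback.snd f a ≫ pT) :
    IsPullback φ (pullback.snd f a) (pullback.snd f₀ k₀) pT := by
  refine IsPullback.of_right ?_ hφ₂ (IsPullback.of_hasPullback f₀ k₀)
  rw [hφ₁, hPY]
  exact (IsPullback.of_hasPullback f a).paste_horiz hP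

set_option backward.isDefEq.respectTransparency false in
include hP hg hg₀ hgg in
/-- Geometric irreducibility of a component descends to the model. -/
theorem isIrreducible_preimage_of_model (h : H06EGA15.GeomIrr f g) (y : Y) {T : Scheme.{u}} (k₀ : T ⟶ S) (t : T)
    (ht : k₀ t = b y) :
    IsIrreducible (pullback.fst f₀ k₀ ⁻¹' connectedComponentIn (f₀.base ⁻¹' {k₀ t}) (g₀.base (k₀ t)) ∩
      pullback.snd f₀ k₀ ⁻¹' {t}) := by
  let PY := pullback k₀ b
  let a : PY ⟶ Y := pullback.snd k₀ b
  let pT : PY ⟶ T := pullback.fst k₀ b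
  obtain ⟨w, hwt, hwy⟩ := Scheme.exists_preimage_of_isPullback (IsPullback.of_hasPullback k₀ b) t y ht
  let φ : pullback f a ⟶ pullback f₀ k₀ := pullback.lift (pullback.fst f a ≫ gX) (pullback.snd f a ≫ pT) (by
    rw [Category.assoc, hP.w, pullback.condition_assoc, Category.assoc, pullback.condition])
  have hφ₁ : φ ≫ pullback.fst f₀ k₀ = pullback.fst f a ≫ gX := pullback.lift_fst _ _ _
  have hφ₂ : φ ≫ pullback.snd f₀ k₀ = pullback.snd f a ≫ pT := pullback.lift_snd _ _ _
  have hφ₁' : ∀ z, pullback.fst f₀ k₀ (φ z) = gX (pullback.fst f a z) := fun z => by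
    rw [← Scheme.Hom.comp_apply, hφ₁, Scheme.Hom.comp_apply]
  have hφ₂' : ∀ z, pullback.snd f₀ k₀ (φ z) = pT (pullback.snd f a z) := fun z => by
    rw [← Scheme.Hom.comp_apply, hφ₂, Scheme.Hom.comp_apply]
  have hsq := isPullback_map_of_model hP k₀ pT a pullback.condition φ hφ₁ hφ₂
  have hay : a w = y := hwy
  have hfa : ∀ z, f (pullback.fst f a z) = a (pullback.snd f a z) := fun z => by
    rw [← Scheme.Hom.comp_apply, pullback.condition, Scheme.Hom.comp_apply]
  have hfb : ∀ x, f₀ (gX x) = b (f x) := fun x => by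
    rw [← Scheme.Hom.comp_apply, hP.w, Scheme.Hom.comp_apply]
  have hA := h.isIrreducible_preimage f g a w
  rw [hay] at hA
  have key : pullback.fst f₀ k₀ ⁻¹' connectedComponentIn (f₀.base ⁻¹' {k₀ t}) (g₀.base (k₀ t)) ∩
      pullback.snd f₀ k₀ ⁻¹' {t} =
      φ '' (pullback.fst f a ⁻¹' connectedComponentIn (f.base ⁻¹' {y}) (g.base y) ∩ pullback.snd f a ⁻¹' {w}) := by
    ext z
    constructor
    · rintro ⟨hz, hzt⟩
      obtain ⟨z', hz', hz'w⟩ := Scheme.exists_preimage_of_isPullback hsq z w (hzt.trans hwt.symm)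
      refine ⟨z', ⟨?_, hz'w⟩, hz'⟩
      have hx : f (pullback.fst f a z') = y := by rw [hfa, hz'w, hay]
      have h0 : f₀ (gX (pullback.fst f a z')) = k₀ t := by rw [hfb, hx, ht]
      have := (mem_component_iff_of_model hP hg hg₀ hgg (pullback.fst f a z')).mpr (by
        rw [h0, ← hφ₁', hz']; exact hz)
      rwa [hx] at this
    · rintro ⟨z', ⟨hz', hz'w⟩, rfl⟩
      have hz'' : pullback.fst f a z' ∈ connectedComponentIn (f.base ⁻¹' {y}) (g.base y) := hz'
      have hx : f (pullback.fst f a z') = y := H06EGA15.apply_eq_of_mem hz''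
      have h0 : f₀ (gX (pullback.fst f a z')) = k₀ t := by rw [hfb, hx, ht]
      refine ⟨?_, ?_⟩
      · show pullback.fst f₀ k₀ (φ z') ∈ connectedComponentIn (f₀.base ⁻¹' {k₀ t}) (g₀.base (k₀ t))
        have := (mem_component_iff_of_model hP hg hg₀ hgg (pullback.fst f a z')).mp (by rw [hx]; exact hz'')
        rw [h0] at this
        rw [hφ₁']
        exact this
      · show pullback.snd f₀ k₀ (φ z') = t
        rw [hφ₂', show pullback.snd f a z' = w from hz'w]
        exact hwt
  rw [key]
  exact hA.image _ φ.continuous.continuousOn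

set_option backward.isDefEq.respectTransparency false in
include hP in
/-- Geometric reducedness at a point gives reduced fibres in every base change of the model. -/
theorem isReduced_stalk_fiber_of_model {x : X}
    (hred : FBase.IsGeomReducedAt (f.fiberToSpecResidueField (f.base x)) (f.asFiber x))
    {T : Scheme.{u}} (k₀ : T ⟶ S) (z : ↥(pullback f₀ k₀)) (hz : pullback.fst f₀ k₀ z = gX x) :
    _root_.IsReduced (((pullback.snd f₀ k₀).fiber (pullback.snd f₀ k₀ z)).presheaf.stalk
      ((pullback.snd f₀ k₀).asFiber z)) := by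
  let PY := pullback k₀ b
  let a : PY ⟶ Y := pullback.snd k₀ b
  let pT : PY ⟶ T := pullback.fst k₀ b
  let φ : pullback f a ⟶ pullback f₀ k₀ := pullback.lift (pullback.fst f a ≫ gX) (pullback.snd f a ≫ pT) (by
    rw [Category.assoc, hP.w, pullback.condition_assoc, Category.assoc, pullback.condition])
  have hφ₁ : φ ≫ pullback.fst f₀ k₀ = pullback.fst f a ≫ gX := pullback.lift_fst _ _ _
  have hφ₂ : φ ≫ pullback.snd f₀ k₀ = pullback.snd f a ≫ pT := pullback.lift_snd _ _ _
  have hsq := isPullback_map_of_model hP k₀ pT a pullback.condition φ hφ₁ hφ₂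
  have hsq' : IsPullback φ (pullback.fst f a) (pullback.fst f₀ k₀) gX := by
    refine IsPullback.of_bot (v₂₁ := f) (v₂₂ := f₀) (h₃₁ := b) ?_ hφ₁ hP
    rw [pullback.condition (f := f₀), pullback.condition (f := f)]
    exact hsq.paste_vert (IsPullback.of_hasPullback k₀ b)
  obtain ⟨z', hz'φ, hz'x⟩ := Scheme.exists_preimage_of_isPullback hsq' z x hz
  subst hz'φ
  let q := pullback.snd f a
  let q₀ := pullback.snd f₀ k₀
  let w := q z'
  have hx : f x = a w := by
    rw [← hz'x, ← Scheme.Hom.comp_apply, pullback.condition, Scheme.Hom.comp_apply]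
  obtain ⟨v, hv⟩ := (f.range_fiberι (a w)).ge (show x ∈ f ⁻¹' {a w} from hx)
  haveI : _root_.IsReduced ((q.fiber w).presheaf.stalk (q.asFiber z')) := by
    refine H06EGA15.isReduced_stalk_fiber_of_isGeomReducedAt f a w (q.asFiber z') v ?_
      (isGeomReducedAt_of_fiberι f hred _ v hv)
    show pullback.fst f a (q.fiberι _ (q.asFiber z')) = _
    rw [q.fiberι_asFiber, hv]
    exact hz'x
  have hw : q₀ (φ z') = pT w := by
    rw [← Scheme.Hom.comp_apply, hφ₂, Scheme.Hom.comp_apply]
  suffices H : ∀ (t : T) (u : ↥(q₀.fiber t)), pT w = t → q₀.fiberι t u = φ z' →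
      _root_.IsReduced ((q₀.fiber t).presheaf.stalk u) from H _ _ hw.symm (q₀.fiberι_asFiber _)
  intro t u ht hu
  subst ht
  let e := isPullback_fiberToSpecResidueField_of_isPullback hsq w
  obtain ⟨ψ, hψ, hψι⟩ : ∃ ψ : q.fiber w ⟶ q₀.fiber (pT w), Flat ψ ∧ ψ ≫ q₀.fiberι (pT w) = q.fiberι w ≫ φ := by
    refine ⟨pullback.map _ _ _ _ φ (Spec.map (pT.residueFieldMap w)) pT hsq.w.symm (by simp), ?_, ?_⟩
    · refine MorphismProperty.of_isPullback (P := @Flat) e.flip ?_
      refine (HasRingHomProperty.Spec_iff (P := @Flat)).mpr ?_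
      algebraize [(pT.residueFieldMap w).hom]
      exact inferInstanceAs (Module.Flat _ _)
    · exact pullback.lift_fst _ _ _
  have hψu : ψ (q.asFiber z') = u := (q₀.fiberι _).isEmbedding.injective (by
    rw [← Scheme.Hom.comp_apply, hψι, Scheme.Hom.comp_apply, q.fiberι_asFiber, hu])
  subst hψu
  haveI := hψ
  algebraize [(ψ.stalkMap (q.asFiber z')).hom]
  haveI : IsLocalHom (algebraMap ((q₀.fiber (pT w)).presheaf.stalk (ψ (q.asFiber z')))
      ((q.fiber w).presheaf.stalk (q.asFiber z'))) :=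
    inferInstanceAs (IsLocalHom (ψ.stalkMap (q.asFiber z')).hom)
  haveI : Module.Flat ((q₀.fiber (pT w)).presheaf.stalk (ψ (q.asFiber z')))
      ((q.fiber w).presheaf.stalk (q.asFiber z')) := Flat.stalkMap ψ (q.asFiber z')
  haveI := Module.FaithfullyFlat.of_flat_of_isLocalHom
    (A := (q₀.fiber (pT w)).presheaf.stalk (ψ (q.asFiber z'))) (B := (q.fiber w).presheaf.stalk (q.asFiber z'))
  exact isReduced_of_injective (algebraMap _ _) (FaithfulSMul.algebraMap_injective
    ((q₀.fiber (pT w)).presheaf.stalk (ψ (q.asFiber z'))) ((q.fiber w).presheaf.stalk (q.asFiber z')))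

set_option backward.isDefEq.respectTransparency false in
include hP in
/-- Geometric reducedness at a point descends to the model. -/
theorem isGeomReducedAt_of_model {x : X}
    (hred : FBase.IsGeomReducedAt (f.fiberToSpecResidueField (f.base x)) (f.asFiber x)) :
    FBase.IsGeomReducedAt (f₀.fiberToSpecResidueField (f₀.base (gX x))) (f₀.asFiber (gX x)) := by
  intro K _ _ u hu
  let s := f₀ (gX x)
  let a := Spec.map (CommRingCat.ofHom (algebraMap (IsLocalRing.ResidueField (S.presheaf.stalk s)) K))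
  let k₀ := a ≫ S.fromSpecResidueField s
  have hbig : IsPullback (FBase.bcπ (f₀.fiberToSpecResidueField s) K ≫ f₀.fiberι s)
      (pullback.snd (f₀.fiberToSpecResidueField s) a) f₀ k₀ :=
    (IsPullback.of_hasPullback (f₀.fiberToSpecResidueField s) a).paste_horiz
      (IsPullback.of_hasPullback f₀ (S.fromSpecResidueField s))
  let e := hbig.isoPullback
  let q₀ := pullback.snd f₀ k₀
  have hz : pullback.fst f₀ k₀ (e.hom u) = gX x := by
    rw [← Scheme.Hom.comp_apply, IsPullback.isoPullback_hom_fst, Scheme.Hom.comp_apply,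
      show (FBase.bcπ (f₀.fiberToSpecResidueField s) K) u = f₀.asFiber (gX x) from hu]
    exact f₀.fiberι_asFiber (gX x)
  haveI := isReduced_stalk_fiber_of_model hP hred k₀ (e.hom u) hz
  let t := q₀ (e.hom u)
  haveI : IsIso (Scheme.fromSpecResidueField (Spec (CommRingCat.of K)) t) := by
    exact H06SecComp.isIso_fromSpecResidueField_field t
  haveI : IsIso (q₀.fiberι t) := by
    show IsIso (pullback.fst q₀ _)
    infer_instance
  have h1 : (q₀.fiberι t) (q₀.asFiber (e.hom u)) = e.hom u := q₀.fiberι_asFiber _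
  let σ := q₀.fiberι t ≫ e.inv
  have h2 : σ (q₀.asFiber (e.hom u)) = u := by
    show e.inv ((q₀.fiberι t) (q₀.asFiber (e.hom u))) = u
    rw [h1, ← Scheme.Hom.comp_apply, e.hom_inv_id]
    rfl
  rw [← h2]
  exact isReduced_of_injective (asIso (σ.stalkMap (q₀.asFiber (e.hom u)))).commRingCatIsoToRingEquiv.toRingHom
    (asIso (σ.stalkMap (q₀.asFiber (e.hom u)))).commRingCatIsoToRingEquiv.injective

set_option backward.isDefEq.respectTransparency false in
include hP in
/-- The extensions of a fibre of a base change are extensions of the original fibre. -/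
theorem exists_bc_iso_of_baseChange (y : Y) (K : Type u) [Field K]
    [Algebra (IsLocalRing.ResidueField (Y.presheaf.stalk y)) K] :
    ∃ (_ : Algebra (IsLocalRing.ResidueField (S.presheaf.stalk (b y))) K)
      (e : FBase.bc (f.fiberToSpecResidueField y) K ≅ FBase.bc (f₀.fiberToSpecResidueField (b y)) K),
      e.hom ≫ FBase.bcπ (f₀.fiberToSpecResidueField (b y)) K ≫ f₀.fiberι (b y) =
        FBase.bcπ (f.fiberToSpecResidueField y) K ≫ f.fiberι y ≫ gX := by
  letI : Algebra (IsLocalRing.ResidueField (S.presheaf.stalk (b y))) K :=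
    ((algebraMap (IsLocalRing.ResidueField (Y.presheaf.stalk y)) K).comp (b.residueFieldMap y).hom).toAlgebra
  let hsq := isPullback_fiberToSpecResidueField_of_isPullback hP y
  have hbig : IsPullback (FBase.bcπ (f.fiberToSpecResidueField y) K ≫
      pullback.map _ _ _ _ gX (Spec.map (b.residueFieldMap y)) b hP.w.symm (by simp))
      (pullback.snd (f.fiberToSpecResidueField y)
        (Spec.map (CommRingCat.ofHom (algebraMap (IsLocalRing.ResidueField (Y.presheaf.stalk y)) K))))
      (f₀.fiberToSpecResidueField (b y))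
      (Spec.map (CommRingCat.ofHom (algebraMap (IsLocalRing.ResidueField (S.presheaf.stalk (b y))) K))) := by
    have := (IsPullback.of_hasPullback (f.fiberToSpecResidueField y)
      (Spec.map (CommRingCat.ofHom (algebraMap (IsLocalRing.ResidueField (Y.presheaf.stalk y)) K)))).paste_horiz hsq
    rw [← Spec.map_comp] at this
    exact this
  refine ⟨inferInstance, hbig.isoPullback, ?_⟩
  show hbig.isoPullback.hom ≫ pullback.fst _ _ ≫ f₀.fiberι (b y) = _
  rw [← Category.assoc, IsPullback.isoPullback_hom_fst, Category.assoc]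
  congr 1
  exact pullback.lift_fst _ _ _

set_option backward.isDefEq.respectTransparency false in
include hP hg hg₀ hgg in
/-- Geometric irreducibility of the components passes to base changes. -/
theorem geomIrr_baseChange (h : H06EGA15.GeomIrr f₀ g₀) : H06EGA15.GeomIrr f g := by
  intro y K _ _
  obtain ⟨_, e, he⟩ := exists_bc_iso_of_baseChange hP y K
  have he' : ∀ u, f₀.fiberι (b y) ((FBase.bcπ (f₀.fiberToSpecResidueField (b y)) K) (e.hom u)) =
      gX (f.fiberι y ((FBase.bcπ (f.fiberToSpecResidueField y) K) u)) := fun u =>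
    congrArg (fun φ : FBase.bc (f.fiberToSpecResidueField y) K ⟶ X₀ => φ u) he
  have hfy : ∀ u : ↥(f.fiber y), f (f.fiberι y u) = y := fun u => (f.range_fiberι y).le (Set.mem_range_self u)
  have key : ∀ u : ↥(f.fiber y), f.fiberι y u ∈ connectedComponentIn (f.base ⁻¹' {y}) (g.base y) ↔
      gX (f.fiberι y u) ∈ connectedComponentIn (f₀.base ⁻¹' {b y}) (g₀.base (b y)) := by
    intro u
    have := mem_component_iff_of_model hP hg hg₀ hgg (f.fiberι y u)
    rwa [show f₀ (gX (f.fiberι y u)) = b y by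
      rw [← Scheme.Hom.comp_apply gX f₀, hP.w, Scheme.Hom.comp_apply, hfy], hfy] at this
  have hset : (FBase.bcπ (f.fiberToSpecResidueField y) K ≫ f.fiberι y).base ⁻¹'
      connectedComponentIn (f.base ⁻¹' {y}) (g.base y) = e.inv '' ((FBase.bcπ (f₀.fiberToSpecResidueField (b y)) K ≫
        f₀.fiberι (b y)).base ⁻¹' connectedComponentIn (f₀.base ⁻¹' {b y}) (g₀.base (b y))) := by
    ext u
    constructor
    · intro hu
      refine ⟨e.hom u, ?_, by rw [← Scheme.Hom.comp_apply, e.hom_inv_id]; rfl⟩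
      show f₀.fiberι (b y) ((FBase.bcπ (f₀.fiberToSpecResidueField (b y)) K) (e.hom u)) ∈
        connectedComponentIn (f₀.base ⁻¹' {b y}) (g₀.base (b y))
      rw [he']
      exact (key _).mp hu
    · rintro ⟨v, hv, rfl⟩
      show f.fiberι y ((FBase.bcπ (f.fiberToSpecResidueField y) K) (e.inv v)) ∈
        connectedComponentIn (f.base ⁻¹' {y}) (g.base y)
      refine (key _).mpr ?_
      rw [← he', ← Scheme.Hom.comp_apply e.inv e.hom, e.inv_hom_id]
      exact hv
  rw [hset]
  exact (h (b y) K).image _ e.inv.continuous.continuousOn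

set_option backward.isDefEq.respectTransparency false in
include hP in
/-- Geometric reducedness at a point passes to base changes. -/
theorem isGeomReducedAt_baseChange {x : X}
    (h : FBase.IsGeomReducedAt (f₀.fiberToSpecResidueField (f₀.base (gX x))) (f₀.asFiber (gX x))) :
    FBase.IsGeomReducedAt (f.fiberToSpecResidueField (f.base x)) (f.asFiber x) := by
  intro K _ _ u hu
  obtain ⟨_, e, he⟩ := exists_bc_iso_of_baseChange hP (f x) K
  have h1 : gX x = f₀.fiberι (b (f x)) ((FBase.bcπ (f₀.fiberToSpecResidueField (b (f x))) K) (e.hom u)) := by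
    have := congrArg (fun φ : FBase.bc (f.fiberToSpecResidueField (f x)) K ⟶ X₀ => φ u) he
    refine (this.trans ?_).symm
    show gX (f.fiberι (f x) ((FBase.bcπ (f.fiberToSpecResidueField (f x)) K) u)) = gX x
    rw [show (FBase.bcπ (f.fiberToSpecResidueField (f x)) K) u = f.asFiber x from hu, f.fiberι_asFiber]
  haveI := isGeomReducedAt_of_fiberι f₀ h _ _ h1.symm K (e.hom u) rfl
  exact isReduced_of_injective (asIso (e.hom.stalkMap u)).commRingCatIsoToRingEquiv.symm.toRingHom
    (asIso (e.hom.stalkMap u)).commRingCatIsoToRingEquiv.symm.injective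

end Groth.Agent.H06SecComp
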