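import Groth.Agent.H7Lim.FPDescent.Noetherian
import Groth.Agent.H7Lim.Descend

/-!
Noetherian models of finitely presented morphisms with a section.
-/

set_option backward.isDefEq.respectTransparency false

open CategoryTheory CategoryTheory.Limits AlgebraicGeometry Opposite

universe u

namespace Groth.Agent.H06SecComp

open Groth.Agent.H7Lim Groth.Agent.H7Lim.FPDescent

variable (R : Type u) [CommRing R]

/-- A finitely presented morphism with a section and a property which descends comes from a finitely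
generated subring. -/
theorem exists_model_section_of (P : MorphismProperty Scheme.{u}) [P.RespectsIso]
    (hdesc : DescendsAffine.{u} P @LocallyOfFinitePresentation) {X : Scheme.{u}} (f : X ⟶ Spec (CommRingCat.of R))
    [LocallyOfFinitePresentation f] [QuasiCompact f] [QuasiSeparated f]
    (g : Spec (CommRingCat.of R) ⟶ X) (hg : g ≫ f = 𝟙 _) (hf : P f) :
    ∃ (A : Subalgebra ℤ R) (_ : Algebra.FiniteType ℤ A) (X₀ : Scheme.{u}) (f₀ : X₀ ⟶ Spec (CommRingCat.of A))
      (g₀ : Spec (CommRingCat.of A) ⟶ X₀) (gX : X ⟶ X₀),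
      LocallyOfFinitePresentation f₀ ∧ QuasiCompact f₀ ∧ QuasiSeparated f₀ ∧ g₀ ≫ f₀ = 𝟙 _ ∧
        IsPullback gX f f₀ (Spec.map (CommRingCat.ofHom A.val.toRingHom)) ∧
        g ≫ gX = Spec.map (CommRingCat.ofHom A.val.toRingHom) ≫ g₀ ∧ P f₀ := by
  let c : Cone ((subringFunctor R).op ⋙ Scheme.Spec) := Scheme.Spec.mapCone (subringCocone R).op
  have hc : IsLimit c := isLimitOfPreserves Scheme.Spec (subringIsColimit R).op
  haveI : ∀ (i j : (Finset R)ᵒᵖ) (φ : i ⟶ j), IsAffineHom (((subringFunctor R).op ⋙ Scheme.Spec).map φ) := fun i j φ =>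
    inferInstanceAs (IsAffineHom (Spec.map _))
  haveI : ∀ i, IsAffine (((subringFunctor R).op ⋙ Scheme.Spec).obj i) := fun i =>
    inferInstanceAs (IsAffine (Spec _))
  haveI : ∀ i, CompactSpace (((subringFunctor R).op ⋙ Scheme.Spec).obj i) := fun i =>
    inferInstanceAs (CompactSpace ↥(Spec _))
  haveI : ∀ i, QuasiSeparatedSpace (((subringFunctor R).op ⋙ Scheme.Spec).obj i) := fun i =>
    inferInstanceAs (QuasiSeparatedSpace ↥(Spec _))
  haveI : Nonempty (Finset R) := ⟨∅⟩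
  obtain ⟨i, ⟨M⟩⟩ := exists_model hc (X := X) f
  let N : Model c (𝟙 c.pt) i :=
    { P := ((subringFunctor R).op ⋙ Scheme.Spec).obj i
      p := 𝟙 _
      lfp := inferInstance
      qc := inferInstance
      qs := inferInstance
      g := c.π.app i
      hpb := IsPullback.of_vert_isIso ⟨by simp⟩ }
  obtain ⟨j₁, φ₁, ⟨F₁⟩⟩ := exists_hom hc N M g hg
  haveI := (M.shift φ₁).compactSpace
  haveI := (M.shift φ₁).quasiSeparatedSpace
  have hP₁ : P (pullback.snd (M.shift φ₁).p (c.π.app j₁)) := by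
    rw [← (M.shift φ₁).hpb.isoPullback_inv_snd]
    exact (P.cancel_left_of_respectsIso _ f).mpr hf
  obtain ⟨j, φ, hPj⟩ := hdesc _ _ c hc j₁ (M.shift φ₁).p (M.shift φ₁).lfp hP₁
  let M₂ := (M.shift φ₁).shift φ
  let F := F₁.shift φ hg
  haveI : IsIso (N.shift φ₁).p := by
    show IsIso (pullback.snd (𝟙 _) _)
    infer_instance
  haveI : IsIso ((N.shift φ₁).shift φ).p := by
    show IsIso (pullback.snd (N.shift φ₁).p _)
    infer_instance
  refine ⟨Algebra.adjoin ℤ ((unop j : Finset R) : Set R),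
    (Algebra.adjoin ℤ ((unop j : Finset R) : Set R)).fg_iff_finiteType.1 ⟨unop j, rfl⟩,
    M₂.P, M₂.p, inv ((N.shift φ₁).shift φ).p ≫ F.o, M₂.g,
    M₂.lfp, M₂.qc, M₂.qs, ?_, M₂.hpb, ?_, hPj⟩
  · rw [Category.assoc, F.w_p]
    exact IsIso.inv_hom_id _
  · show g ≫ M₂.g = c.π.app j ≫ _
    rw [← F.w_g, ← Category.assoc (c.π.app j)]
    congr 1
    rw [IsIso.eq_comp_inv, ((N.shift φ₁).shift φ).hpb.w, Category.id_comp]

/-- A finitely presented morphism with a section comes from a finitely generated subring. -/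
theorem exists_model_section {X : Scheme.{u}} (f : X ⟶ Spec (CommRingCat.of R))
    [LocallyOfFinitePresentation f] [QuasiCompact f] [QuasiSeparated f]
    (g : Spec (CommRingCat.of R) ⟶ X) (hg : g ≫ f = 𝟙 _) :
    ∃ (A : Subalgebra ℤ R) (_ : Algebra.FiniteType ℤ A) (X₀ : Scheme.{u}) (f₀ : X₀ ⟶ Spec (CommRingCat.of A))
      (g₀ : Spec (CommRingCat.of A) ⟶ X₀) (gX : X ⟶ X₀),
      LocallyOfFinitePresentation f₀ ∧ QuasiCompact f₀ ∧ QuasiSeparated f₀ ∧ g₀ ≫ f₀ = 𝟙 _ ∧
        IsPullback gX f f₀ (Spec.map (CommRingCat.ofHom A.val.toRingHom)) ∧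
        g ≫ gX = Spec.map (CommRingCat.ofHom A.val.toRingHom) ≫ g₀ := by
  let c : Cone ((subringFunctor R).op ⋙ Scheme.Spec) := Scheme.Spec.mapCone (subringCocone R).op
  have hc : IsLimit c := isLimitOfPreserves Scheme.Spec (subringIsColimit R).op
  haveI : ∀ (i j : (Finset R)ᵒᵖ) (φ : i ⟶ j), IsAffineHom (((subringFunctor R).op ⋙ Scheme.Spec).map φ) := fun i j φ =>
    inferInstanceAs (IsAffineHom (Spec.map _))
  haveI : ∀ i, CompactSpace (((subringFunctor R).op ⋙ Scheme.Spec).obj i) := fun i =>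
    inferInstanceAs (CompactSpace ↥(Spec _))
  haveI : ∀ i, QuasiSeparatedSpace (((subringFunctor R).op ⋙ Scheme.Spec).obj i) := fun i =>
    inferInstanceAs (QuasiSeparatedSpace ↥(Spec _))
  haveI : Nonempty (Finset R) := ⟨∅⟩
  obtain ⟨i, ⟨M⟩⟩ := exists_model hc (X := X) f
  let N : Model c (𝟙 c.pt) i :=
    { P := ((subringFunctor R).op ⋙ Scheme.Spec).obj i
      p := 𝟙 _
      lfp := inferInstance
      qc := inferInstance
      qs := inferInstance
      g := c.π.app i
      hpb := IsPullback.of_vert_isIso ⟨by simp⟩ }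
  obtain ⟨j, φ, ⟨F⟩⟩ := exists_hom hc N M g hg
  haveI : IsIso (N.shift φ).p := by
    show IsIso (pullback.snd (𝟙 _) _)
    infer_instance
  refine ⟨Algebra.adjoin ℤ ((unop j : Finset R) : Set R),
    (Algebra.adjoin ℤ ((unop j : Finset R) : Set R)).fg_iff_finiteType.1 ⟨unop j, rfl⟩,
    (M.shift φ).P, (M.shift φ).p, inv (N.shift φ).p ≫ F.o, (M.shift φ).g,
    (M.shift φ).lfp, (M.shift φ).qc, (M.shift φ).qs, ?_, (M.shift φ).hpb, ?_⟩
  · rw [Category.assoc, F.w_p]
    exact IsIso.inv_hom_id _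
  · show g ≫ (M.shift φ).g = c.π.app j ≫ _
    rw [← F.w_g, ← Category.assoc (c.π.app j)]
    congr 1
    rw [IsIso.eq_comp_inv, (N.shift φ).hpb.w, Category.id_comp]

end Groth.Agent.H06SecComp
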