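import Groth.Agent.H06SecComp.GeomDescend
import Groth.Agent.H06SecComp.Approx
import Groth.Agent.H7Lim.DescendFlat

/-!
Components along a section of finitely presented morphisms over arbitrary bases.
-/

open CategoryTheory CategoryTheory.Limits AlgebraicGeometry TopologicalSpace Topology

universe u

namespace Groth.Agent.H06SecComp

variable {X Y : Scheme.{u}} (f : X ⟶ Y) [LocallyOfFinitePresentation f] [QuasiCompact f] [QuasiSeparated f]
  (g : Y ⟶ X) (hg : g ≫ f = 𝟙 Y)

set_option backward.isDefEq.respectTransparency false in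
include hg in
/-- Over an affine base the components along a section form a constructible set. -/
theorem isConstructible_sectionComponents_fp {R : Type u} [CommRing R] (k : Spec (CommRingCat.of R) ⟶ Y)
    [IsOpenImmersion k] : IsConstructible (pullback.fst f k ⁻¹' MoreMor.sectionComponents f g) := by
  let g' : Spec (CommRingCat.of R) ⟶ pullback f k := pullback.lift (k ≫ g) (𝟙 _)
    (by rw [Category.assoc, hg, Category.comp_id, Category.id_comp])
  obtain ⟨A, hA, X₀, f₀, g₀, gA, hlfp, hqc, hqs, hg₀, hPA, hgA⟩ :=
    exists_model_section R (pullback.snd f k) g' (pullback.lift_snd _ _ _)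
  haveI : IsNoetherianRing A := Algebra.FiniteType.isNoetherianRing ℤ A
  haveI : IsNoetherianRing (CommRingCat.of A) := inferInstanceAs (IsNoetherianRing A)
  haveI := hlfp
  haveI := hqc
  haveI : IsAffineHom gA := MorphismProperty.of_isPullback (P := @IsAffineHom) hPA.flip inferInstance
  rw [← sectionComponents_baseChange f g hg (pullback.snd f k) (pullback.fst f k) k (IsPullback.of_hasPullback f k)
    g' (pullback.lift_snd _ _ _) (pullback.lift_fst _ _ _),
    sectionComponents_baseChange f₀ g₀ hg₀ (pullback.snd f k) gA _ hPA g' (pullback.lift_snd _ _ _) hgA]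
  exact Scheme.Hom.isConstructible_preimage gA (isConstructible_sectionComponents f₀ g₀ hg₀)

set_option backward.isDefEq.respectTransparency false in
include hg in
/-- The components along a section of a finitely presented morphism form a locally constructible set. -/
theorem isLocallyConstructible_sectionComponents_fp : IsLocallyConstructible (MoreMor.sectionComponents f g) := by
  intro x
  obtain ⟨W, hW, hxW, -⟩ := exists_isAffineOpen_mem_and_subset (X := Y) (x := f x) (U := ⊤) trivial
  have hc := isConstructible_sectionComponents_fp f g hg hW.fromSpec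
  let e := pullback.fst f hW.fromSpec
  have hr : Set.range e = (f ⁻¹ᵁ W : Set X) := by
    show Set.range (pullback.fst f hW.fromSpec) = f ⁻¹' (W : Set Y)
    rw [Scheme.Pullback.range_fst, hW.range_fromSpec]
  refine ⟨(f ⁻¹ᵁ W : Set X), (f ⁻¹ᵁ W).isOpen.mem_nhds hxW, (f ⁻¹ᵁ W).isOpen, ?_⟩
  let φ : ↥(pullback f hW.fromSpec) ≃ₜ (f ⁻¹ᵁ W : Set X) :=
    e.isOpenEmbedding.toIsEmbedding.toHomeomorph.trans (Homeomorph.setCongr hr)
  have h2 := hc.preimage_of_isOpenEmbedding φ.symm.isOpenEmbedding
  convert! h2 using 1
  ext z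
  show (z : X) ∈ MoreMor.sectionComponents f g ↔ e (φ.symm z) ∈ MoreMor.sectionComponents f g
  have : e (φ.symm z) = (z : X) := congrArg Subtype.val (φ.apply_symm_apply z)
  rw [this]

set_option backward.isDefEq.respectTransparency false in
include hg in
/-- Over an arbitrary base, flatness and geometric reducedness along a component make the components a neighbourhood. -/
theorem mem_interior_sectionComponents_fp [Flat f] (y : Y)
    (hred : ∀ x ∈ connectedComponentIn (f.base ⁻¹' {y}) (g.base y),
      FBase.IsGeomReducedAt (f.fiberToSpecResidueField (f.base x)) (f.asFiber x))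
    {x : X} (hx : x ∈ connectedComponentIn (f.base ⁻¹' {y}) (g.base y)) :
    x ∈ interior (MoreMor.sectionComponents f g) := by
  obtain rfl : f x = y := H06EGA15.apply_eq_of_mem hx
  obtain ⟨W, hW, hxW, -⟩ := exists_isAffineOpen_mem_and_subset (X := Y) (x := f x) (U := ⊤) trivial
  let k := hW.fromSpec
  let f' := pullback.snd f k
  let g' : Spec Γ(Y, W) ⟶ pullback f k := pullback.lift (k ≫ g) (𝟙 _)
    (by rw [Category.assoc, hg, Category.comp_id, Category.id_comp])
  have hg' : g' ≫ f' = 𝟙 _ := pullback.lift_snd _ _ _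
  have hgg' : g' ≫ pullback.fst f k = k ≫ g := pullback.lift_fst _ _ _
  obtain ⟨w, hw⟩ : f x ∈ Set.range k := hW.range_fromSpec.symm ▸ hxW
  obtain ⟨x', rfl, hx'w⟩ := Scheme.exists_preimage_of_isPullback (IsPullback.of_hasPullback f k) x w hw.symm
  obtain ⟨A, hA, X₀, f₀, g₀, gA, hlfp, hqc, hqs, hg₀, hPA, hgA, hflat⟩ :=
    exists_model_section_of Γ(Y, W) @Flat H7Lim.descendsAffine_flat f' g' hg' inferInstance
  haveI : IsNoetherianRing A := Algebra.FiniteType.isNoetherianRing ℤ A
  haveI : IsNoetherianRing (CommRingCat.of A) := inferInstanceAs (IsNoetherianRing A)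
  haveI := hlfp
  haveI := hflat
  haveI : UniversallyOpen f₀ := inferInstance
  have hP := IsPullback.of_hasPullback f k
  have hx₀ : gA x' ∈ connectedComponentIn (f₀.base ⁻¹' {f₀ (gA x')}) (g₀.base (f₀ (gA x'))) :=
    (mem_component_iff_of_model hPA hg' hg₀ hgA x').mp ((mem_component_iff_of_model hP hg' hg hgg' x').mpr hx)
  have hint := mem_interior_sectionComponents f₀ g₀ hg₀ (f₀ (gA x')) (fun a ha => ⟨fun Y' j a' _ U hU =>
    (pullback.snd f₀ j).isOpenMap.image_mem_nhds hU, ?_⟩) hx₀
  · refine interior_maximal (t := pullback.fst f k '' (gA ⁻¹' interior (MoreMor.sectionComponents f₀ g₀))) ?_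
      ((pullback.fst f k).isOpenEmbedding.isOpenMap _ (isOpen_interior.preimage gA.continuous)) ⟨x', hint, rfl⟩
    rintro _ ⟨a, ha, rfl⟩
    exact (mem_component_iff_of_model hP hg' hg hgg' a).mp
      ((mem_component_iff_of_model hPA hg' hg₀ hgA a).mpr
        (interior_subset (s := MoreMor.sectionComponents f₀ g₀) ha))
  · have hfa : f₀ a = f₀ (gA x') := H06EGA15.apply_eq_of_mem ha
    obtain ⟨a₁, rfl, ha₁⟩ := Scheme.exists_preimage_of_isPullback hPA a (f' x')
      (hfa.trans (by rw [← Scheme.Hom.comp_apply, hPA.w, Scheme.Hom.comp_apply]))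
    refine isGeomReducedAt_of_model hPA (isGeomReducedAt_baseChange hP (hred (pullback.fst f k a₁) ?_))
    have h1 : f (pullback.fst f k a₁) = f (pullback.fst f k x') := by
      rw [← Scheme.Hom.comp_apply, ← Scheme.Hom.comp_apply, hP.w, Scheme.Hom.comp_apply, Scheme.Hom.comp_apply, ha₁]
    have h2 := (mem_component_iff_of_model hP hg' hg hgg' a₁).mp
      ((mem_component_iff_of_model hPA hg' hg₀ hgA a₁).mpr (by rw [hfa]; exact ha))
    rwa [h1] at h2

end Groth.Agent.H06SecComp
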