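import Groth.Agent.H06SecComp.Generic

/-!
Section components on the closure of a point.
-/

open CategoryTheory CategoryTheory.Limits AlgebraicGeometry TopologicalSpace Topology

universe u

namespace Groth.Agent.H06SecComp

variable {X Y : Scheme.{u}} (f : X ⟶ Y) (s : Y ⟶ X) (hs : s ≫ f = 𝟙 Y)

set_option backward.isDefEq.respectTransparency false in
include hs in
/-- Along an immersion the section components are the preimage. -/
theorem mem_sectionComponents_fst_iff {Y' : Scheme.{u}} (k : Y' ⟶ Y) [IsImmersion k]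
    (s' : Y' ⟶ pullback f k) (hs' : s' ≫ pullback.snd f k = 𝟙 Y') (hs'k : s' ≫ pullback.fst f k = k ≫ s)
    (x : ↥(pullback f k)) :
    pullback.fst f k x ∈ MoreMor.sectionComponents f s ↔ x ∈ MoreMor.sectionComponents (pullback.snd f k) s' := by
  let p := pullback.fst f k
  let q := pullback.snd f k
  haveI : IsImmersion p := MorphismProperty.pullback_fst (P := @IsImmersion) f k ‹_›
  have hfp : ∀ z, f (p z) = k (q z) := fun z => by
    rw [← Scheme.Hom.comp_apply, pullback.condition, Scheme.Hom.comp_apply]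
  have himg : p '' (q ⁻¹' {q x}) = f ⁻¹' {k (q x)} := by
    refine Set.Subset.antisymm ?_ fun z hz => ?_
    · rintro _ ⟨z, hz, rfl⟩
      exact (hfp z).trans (congrArg k hz)
    · obtain ⟨t, ht, htq⟩ := Scheme.exists_preimage_of_isPullback (IsPullback.of_hasPullback f k) z (q x) hz
      exact ⟨t, htq, ht⟩
  have hx : s' (q x) ∈ q ⁻¹' {q x} := by
    show q (s' (q x)) = q x
    rw [← Scheme.Hom.comp_apply, hs']; rfl
  have hc : p '' connectedComponentIn (q ⁻¹' {q x}) (s' (q x)) =
      connectedComponentIn (f ⁻¹' {f (p x)}) (s (f (p x))) := by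
    have hps : p (s' (q x)) = s (k (q x)) := congrArg (fun φ : Y' ⟶ X => φ (q x)) hs'k
    rw [image_connectedComponentIn_of_isEmbedding p.isEmbedding hx, himg, hfp, hps]
  show p x ∈ connectedComponentIn _ _ ↔ _
  rw [← hc, p.isEmbedding.injective.mem_set_image]
  rfl

set_option backward.isDefEq.respectTransparency false in
include hs in
/-- Near every point of the base the section components are open and closed over its closure. -/
theorem exists_clopen_closure [LocallyOfFiniteType f] [QuasiCompact f] (y : Y) :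
    ∃ (O : Y.Opens) (C D : Set X), y ∈ O ∧ IsClosed C ∧ IsClosed D ∧
      (∀ x : X, f x ∈ O → y ⤳ f x → x ∈ C ∪ D) ∧
      (∀ x : X, f x ∈ O → y ⤳ f x → x ∈ C → x ∉ D) ∧
      (∀ x : X, f x ∈ O → y ⤳ f x → (x ∈ MoreMor.sectionComponents f s ↔ x ∈ C)) := by
  obtain ⟨V, hV, hy, -⟩ := exists_isAffineOpen_mem_and_subset (U := (⊤ : Y.Opens)) (x := y) trivial
  let P := hV.primeIdealOf ⟨y, hy⟩
  haveI : P.asIdeal.IsPrime := P.isPrime
  let R := Γ(Y, V) ⧸ P.asIdeal
  let k : Spec (CommRingCat.of R) ⟶ Y := Spec.map (CommRingCat.ofHom (Ideal.Quotient.mk P.asIdeal)) ≫ hV.fromSpec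
  haveI : IsClosedImmersion (Spec.map (CommRingCat.ofHom (Ideal.Quotient.mk P.asIdeal))) :=
    IsClosedImmersion.spec_of_surjective _ Ideal.Quotient.mk_surjective
  haveI : IsImmersion k := inferInstance
  let s' : Spec (CommRingCat.of R) ⟶ pullback f k := pullback.lift (k ≫ s) (𝟙 _)
    (by rw [Category.assoc, hs, Category.comp_id, Category.id_comp])
  haveI : LocallyOfFiniteType (pullback.snd f k) := MorphismProperty.pullback_snd f k ‹_›
  haveI : QuasiCompact (pullback.snd f k) := MorphismProperty.pullback_snd f k ‹_›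
  obtain ⟨r, C', D', hr, hC', hD', hcov, hdisj, hmem⟩ := exists_clopen (pullback.snd f k) s' (pullback.lift_snd _ _ _)
  obtain ⟨r', rfl⟩ := Ideal.Quotient.mk_surjective r
  let p := pullback.fst f k
  haveI : IsImmersion p := MorphismProperty.pullback_fst (P := @IsImmersion) f k ‹_›
  obtain ⟨C, hC, hCeq⟩ := p.isEmbedding.isInducing.isClosed_iff.mp hC'
  obtain ⟨D, hD, hDeq⟩ := p.isEmbedding.isInducing.isClosed_iff.mp hD'
  have key : ∀ x : X, f x ∈ Y.basicOpen (U := V) r' → y ⤳ f x → ∃ x', p x' = x ∧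
      Ideal.Quotient.mk P.asIdeal r' ∉ (pullback.snd f k x' : PrimeSpectrum R).asIdeal := by
    intro x hx hsp
    have hxV : f x ∈ V := Y.basicOpen_le r' hx
    obtain ⟨q, hq⟩ := hV.range_fromSpec.ge hxV
    have hPy : hV.fromSpec P = y := hV.fromSpec_primeIdealOf ⟨y, hy⟩
    have hPq : P.asIdeal ≤ (q : PrimeSpectrum Γ(Y, V)).asIdeal := (PrimeSpectrum.le_iff_specializes P q).mpr
      (hV.fromSpec.isEmbedding.isInducing.specializes_iff.mp (by rw [hPy, hq]; exact hsp))
    have hker : RingHom.ker (Ideal.Quotient.mk P.asIdeal) ≤ (q : PrimeSpectrum Γ(Y, V)).asIdeal := by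
      rw [Ideal.mk_ker]; exact hPq
    let t : PrimeSpectrum R := ⟨_, Ideal.map_isPrime_of_surjective Ideal.Quotient.mk_surjective hker⟩
    have hct : t.asIdeal.comap (Ideal.Quotient.mk P.asIdeal) = (q : PrimeSpectrum Γ(Y, V)).asIdeal := by
      rw [Ideal.comap_map_of_surjective _ Ideal.Quotient.mk_surjective, ← RingHom.ker_eq_comap_bot,
        sup_eq_left.mpr hker]
    have hkt : k t = f x := by
      rw [Scheme.Hom.comp_apply]
      exact (congrArg hV.fromSpec (PrimeSpectrum.ext hct)).trans hq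
    obtain ⟨x', hx', hx'q⟩ := Scheme.exists_preimage_of_isPullback (IsPullback.of_hasPullback f k) x t hkt.symm
    refine ⟨x', hx', fun h => ?_⟩
    rw [hx'q] at h
    have h1 : r' ∈ (q : PrimeSpectrum Γ(Y, V)).asIdeal := hct.le h
    have h2 : q ∈ hV.fromSpec ⁻¹ᵁ Y.basicOpen (U := V) r' := by show hV.fromSpec q ∈ Y.basicOpen (U := V) r'; rw [hq]; exact hx
    rw [hV.fromSpec_preimage_basicOpen] at h2
    exact h2 h1
  refine ⟨Y.basicOpen (U := V) r', C, D, ?_, hC, hD, ?_, ?_, ?_⟩
  · have hPy : hV.fromSpec P = y := hV.fromSpec_primeIdealOf ⟨y, hy⟩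
    have h2 : P ∈ hV.fromSpec ⁻¹ᵁ Y.basicOpen (U := V) r' := by
      rw [hV.fromSpec_preimage_basicOpen]
      exact fun h => hr (Ideal.Quotient.eq_zero_iff_mem.mpr h)
    exact hPy ▸ h2
  · intro x hx hsp
    obtain ⟨x', rfl, hx'⟩ := key x hx hsp
    rcases hcov x' hx' with h | h
    · exact Or.inl (hCeq.ge h)
    · exact Or.inr (hDeq.ge h)
  · intro x hx hsp hxC hxD
    obtain ⟨x', rfl, hx'⟩ := key x hx hsp
    exact hdisj x' hx' (hCeq.le hxC) (hDeq.le hxD)
  · intro x hx hsp
    obtain ⟨x', rfl, hx'⟩ := key x hx hsp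
    rw [mem_sectionComponents_fst_iff f s hs k s' (pullback.lift_snd _ _ _) (pullback.lift_fst _ _ _), hmem x' hx']
    exact ⟨fun h => hCeq.ge h, fun h => hCeq.le h⟩

end Groth.Agent.H06SecComp
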