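import Groth.Agent.H13SchFin.Connected
import Mathlib.RingTheory.Regular.IsSMulRegular
import Mathlib.RingTheory.Spectrum.Prime.Topology

/-!
Connectedness of the complement of a reduced principal divisor in a local ring.
-/

open TopologicalSpace Topology

universe u

namespace Groth.Agent.H06SecComp

/-- A regular element generating a radical ideal in a local ring has preconnected nonempty complement. -/
theorem isConnected_basicOpen_of_isRadical {R : Type u} [CommRing R] [IsLocalRing R] (p : R)
    (hreg : IsSMulRegular R p) (hrad : (Ideal.span {p}).IsRadical) :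
    _root_.IsConnected (PrimeSpectrum.basicOpen p : Set (PrimeSpectrum R)) := by
  let L := Localization.Away p
  have hinj : Function.Injective (algebraMap R L) := by
    refine IsLocalization.injective L (M := Submonoid.powers p) ?_
    rintro _ ⟨n, rfl⟩
    refine mem_nonZeroDivisors_iff_right.mpr fun z hz => (hreg.pow n) ?_
    show p ^ n • z = p ^ n • (0 : R)
    rw [smul_zero, smul_eq_mul, mul_comm]; exact hz
  haveI : Nontrivial L := ⟨⟨0, 1, fun h => zero_ne_one (hinj (by rw [map_zero, map_one]; exact h))⟩⟩
  haveI : ConnectedSpace (PrimeSpectrum L) := by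
    refine H13SchFin.connectedSpace_of_idempotent fun e he => ?_
    obtain ⟨⟨a, ⟨_, n, rfl⟩⟩, hea⟩ := IsLocalization.surj (Submonoid.powers p) e
    classical
    let P : ℕ → Prop := fun m => ∃ a : R, e * algebraMap R L (p ^ m) = algebraMap R L a
    have hP : ∃ m, P m := ⟨n, a, hea⟩
    obtain ⟨b, hb⟩ := Nat.find_spec hP
    rcases Nat.eq_zero_or_pos (Nat.find hP) with h0 | hpos
    · rw [h0, pow_zero, map_one, mul_one] at hb
      have hbb : b * b = b := hinj (by rw [map_mul, ← hb]; exact he)
      rcases IsLocalRing.isUnit_or_isUnit_one_sub_self b with hu | hu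
      · right
        rw [hb, hu.mul_left_cancel (hbb.trans (mul_one b).symm), map_one]
      · left
        rw [hb, hu.mul_left_cancel (show (1 - b) * b = (1 - b) * 0 by rw [mul_zero, sub_mul, one_mul, hbb, sub_self]),
          map_zero]
    · exfalso
      obtain ⟨m, hm⟩ := Nat.exists_eq_succ_of_ne_zero hpos.ne'
      have h2 : b * b = p ^ (m + 1) * b := hinj (by
        rw [map_mul, map_mul, ← hb, hm]
        calc e * algebraMap R L (p ^ (m + 1)) * (e * algebraMap R L (p ^ (m + 1)))
            = (e * e) * algebraMap R L (p ^ (m + 1)) * algebraMap R L (p ^ (m + 1)) := by ring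
          _ = algebraMap R L (p ^ (m + 1)) * (e * algebraMap R L (p ^ (m + 1))) := by rw [he.eq]; ring)
      have hbp : b ∈ Ideal.span {p} := hrad ⟨2, by
        rw [pow_two, h2, pow_succ, mul_assoc]
        exact Ideal.mul_mem_left _ _ (Ideal.mul_mem_right _ _ (Ideal.mem_span_singleton_self p))⟩
      obtain ⟨c, hc⟩ := Ideal.mem_span_singleton'.mp hbp
      refine Nat.find_min hP (show m < Nat.find hP by omega) ⟨c, ?_⟩
      have hu : IsUnit (algebraMap R L p) := IsLocalization.Away.algebraMap_isUnit p
      refine hu.mul_right_cancel ?_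
      rw [mul_assoc, ← map_mul, ← pow_succ, ← map_mul, hc, ← hb, hm]
  have hr : Set.range (PrimeSpectrum.comap (algebraMap R L)) = PrimeSpectrum.basicOpen p :=
    PrimeSpectrum.localization_away_comap_range L p
  rw [← hr]
  exact isConnected_range (PrimeSpectrum.continuous_comap _)

end Groth.Agent.H06SecComp
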