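import Groth.Agent.H06EGA15.DimConstGenerization
import Groth.Agent.H06SecComp.FlatApprox
import Groth.Agent.H06SecComp.ModelApps
import Groth.Agent.H06SecComp.General
import Groth.Agent.H06GeomRed.Open
import Groth.Agent.H05EGA4.ConsChart

/-!
The components along a section are neighbourhoods of their geometrically reduced points of constant dimension.
-/

open CategoryTheory CategoryTheory.Limits AlgebraicGeometry TopologicalSpace Topology

universe u

namespace Groth.Agent.H06SecComp

open Groth.Agent.H8Props.FieldDim Groth.Agent.H06EGA15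

variable {X Y : Scheme.{u}} (f : X ⟶ Y) (g : Y ⟶ X) (hg : g ≫ f = 𝟙 Y)

set_option backward.isDefEq.respectTransparency false in
include hg in
/-- Over a locally Noetherian base, with irreducible components, stability under generization at a point
makes the components along the section a neighbourhood. -/
theorem mem_interior_of_generization [IsLocallyNoetherian Y] [LocallyOfFiniteType f]
    (hirr : ∀ y : Y, IsIrreducible (connectedComponentIn (f.base ⁻¹' {y}) (g.base y)))
    {x : X} (hgen : ∀ z, z ⤳ x → z ∈ MoreMor.sectionComponents f g) :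
    x ∈ interior (MoreMor.sectionComponents f g) := by
  haveI : IsLocallyNoetherian X := LocallyOfFiniteType.isLocallyNoetherian f
  obtain ⟨U₁, hU₁, hgU₁, -⟩ := exists_isAffineOpen_mem_and_subset (X := X) (x := g (f x)) (U := ⊤) trivial
  obtain ⟨U₂, hU₂, hxU₂, -⟩ := exists_isAffineOpen_mem_and_subset (X := X) (x := x) (U := ⊤) trivial
  let W : X.Opens := U₁ ⊔ U₂
  have hWc : IsCompact (W : Set X) := hU₁.isCompact.union hU₂.isCompact
  obtain ⟨V, hV, hyV, hVW⟩ := exists_isAffineOpen_mem_and_subset (X := Y) (x := f x) (U := g ⁻¹ᵁ W) (Or.inl hgU₁)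
  let W' : X.Opens := W ⊓ f ⁻¹ᵁ V
  have e : W' ≤ f ⁻¹ᵁ V := inf_le_right
  have e' : V ≤ g ⁻¹ᵁ W' := fun v hv => ⟨hVW hv, show f (g v) ∈ V by rw [f_g_apply f g hg v]; exact hv⟩
  let f' := f.resLE V W' e
  let g' := g.resLE W' V e'
  have hg' : g' ≫ f' = 𝟙 V.toScheme := by
    rw [← cancel_mono V.ι]
    simp [f', g', Scheme.Hom.resLE_comp_ι, Scheme.Hom.resLE_comp_ι_assoc, hg]
  haveI : IsNoetherianRing Γ(Y, V) := IsLocallyNoetherian.component_noetherian ⟨V, hV⟩
  haveI : IsLocallyNoetherian V.toScheme := isLocallyNoetherian_of_isOpenImmersion V.ι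
  haveI : IsAffine V.toScheme := hV
  haveI : IsNoetherian V.toScheme := {}
  haveI : IsLocallyNoetherian W.toScheme := isLocallyNoetherian_of_isOpenImmersion W.ι
  haveI : CompactSpace W.toScheme := isCompact_iff_compactSpace.mp hWc
  haveI : IsNoetherian W.toScheme := {}
  haveI : CompactSpace W'.toScheme := by
    refine isCompact_iff_compactSpace.mp ?_
    have h1 : IsCompact (W.ι ⁻¹' (W' : Set X)) := NoetherianSpace.isCompact _
    have h2 := h1.image W.ι.continuous
    rwa [Set.image_preimage_eq_inter_range, Scheme.Opens.range_ι,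
      Set.inter_eq_left.mpr (show (W' : Set X) ⊆ W from fun w hw => hw.1)] at h2
  haveI : IsLocallyNoetherian W'.toScheme := isLocallyNoetherian_of_isOpenImmersion W'.ι
  haveI : QuasiCompact f' := (quasiCompact_iff_compactSpace f').mpr inferInstance
  have hι : ∀ v, V.ι (f' v) = f (W'.ι v) := fun v => by
    rw [← Scheme.Hom.comp_apply, Scheme.Hom.resLE_comp_ι, Scheme.Hom.comp_apply]
  have hfg := f_g_apply f g hg
  have hsc : MoreMor.sectionComponents f' g' = W'.ι ⁻¹' MoreMor.sectionComponents f g := by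
    ext w
    set y := f (W'.ι w) with hy
    have hgι : W'.ι (g' (f' w)) = g y := by
      rw [← Scheme.Hom.comp_apply, Scheme.Hom.resLE_comp_ι, Scheme.Hom.comp_apply, hι]
    have hset : W'.ι '' (f' ⁻¹' {f' w}) = (W' : Set X) ∩ f ⁻¹' {y} := by
      refine Set.Subset.antisymm ?_ ?_
      · rintro _ ⟨v, hv, rfl⟩
        exact ⟨W'.range_ι.le (Set.mem_range_self v), (hι v).symm.trans ((congrArg V.ι hv).trans (hι w))⟩
      · rintro z ⟨hzW, hz⟩
        obtain ⟨v, rfl⟩ := W'.range_ι.ge hzW
        exact ⟨v, V.ι.isOpenEmbedding.injective ((hι v).trans ((show f (W'.ι v) = y from hz).trans (hι w).symm)), rfl⟩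
    have hyW : g y ∈ W' := hgι ▸ W'.range_ι.le ⟨_, rfl⟩
    show w ∈ connectedComponentIn (f' ⁻¹' {f' w}) (g' (f' w)) ↔ W'.ι w ∈ connectedComponentIn (f ⁻¹' {y}) (g y)
    rw [← W'.ι.isEmbedding.injective.mem_set_image, image_connectedComponentIn_of_isEmbedding W'.ι.isEmbedding
      (show g' (f' w) ∈ f' ⁻¹' {f' w} from f_g_apply f' g' hg' _), hset, hgι]
    refine ⟨fun h => connectedComponentIn_mono _ Set.inter_subset_right h, fun h => ?_⟩
    -- an open piece of an irreducible component is connected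
    have hirrU : IsPreirreducible (connectedComponentIn (f ⁻¹' {y}) (g y) ∩ (W' : Set X)) := fun U₁ U₂ h₁ h₂ ⟨a, ha, ha₁⟩ ⟨b, hb, hb₂⟩ => by
      obtain ⟨c, hc, hc1, hc2⟩ := (hirr y).isPreirreducible (U₁ ∩ W') (U₂ ∩ W') (h₁.inter W'.2) (h₂.inter W'.2)
        ⟨a, ha.1, ha₁, ha.2⟩ ⟨b, hb.1, hb₂, hb.2⟩
      exact ⟨c, ⟨hc, hc1.2⟩, hc1.1, hc2.1⟩
    refine hirrU.isPreconnected.subset_connectedComponentIn ⟨mem_connectedComponentIn (hfg y), hyW⟩ ?_
      ⟨h, W'.range_ι.le ⟨w, rfl⟩⟩
    exact fun v hv => ⟨hv.2, connectedComponentIn_subset (f ⁻¹' {y}) _ hv.1⟩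
  have hxW' : x ∈ W' := ⟨Or.inr hxU₂, hyV⟩
  obtain ⟨x', rfl⟩ := W'.range_ι.ge hxW'
  have hc := isConstructible_sectionComponents f' g' hg'
  have hint : x' ∈ interior (MoreMor.sectionComponents f' g') := by
    refine (H05EGA4.ConsChart.mem_interior_iff (H05EGA4.ConsChart.isLocallyConstructible_iff.mp hc.isLocallyConstructible).1 x').mpr ?_
    intro z hz
    rw [hsc]
    exact hgen _ (hz.map W'.ι.continuous)
  refine interior_maximal (t := W'.ι '' interior (MoreMor.sectionComponents f' g')) ?_
    (W'.ι.isOpenEmbedding.isOpenMap _ isOpen_interior) ⟨x', hint, rfl⟩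
  rintro _ ⟨w, hw, rfl⟩
  exact hsc.le (interior_subset (s := MoreMor.sectionComponents f' g') hw)

set_option backward.isDefEq.respectTransparency false in
include hg in
/-- For a finitely presented morphism, generizations of geometrically reduced points of a component of constant
dimension lie in the components. -/
theorem mem_sectionComponents_of_generization_fp [LocallyOfFinitePresentation f] [QuasiCompact f] [QuasiSeparated f]
    (h : GeomIrr f g) {x : X} (hx : x ∈ MoreMor.sectionComponents f g) (V : Y.Opens) (hxV : f x ∈ V)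
    (hV : ∀ η ∈ V, FlatMor.fibreDimAt f (g (f x)) ≤ FlatMor.fibreDimAt f (g η))
    (hred : FBase.IsGeomReducedAt (f.fiberToSpecResidueField (f.base x)) (f.asFiber x))
    {z : X} (hz : z ⤳ x) : z ∈ MoreMor.sectionComponents f g := by
  obtain ⟨W, hW, hxW, hWV⟩ := exists_isAffineOpen_mem_and_subset (X := Y) (x := f x) (U := V) hxV
  let k := hW.fromSpec
  let f' := pullback.snd f k
  let gX := pullback.fst f k
  let g' : Spec Γ(Y, W) ⟶ pullback f k := pullback.lift (k ≫ g) (𝟙 _)
    (by rw [Category.assoc, hg, Category.comp_id, Category.id_comp])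
  have hg' : g' ≫ f' = 𝟙 _ := pullback.lift_snd _ _ _
  have hgg' : g' ≫ gX = k ≫ g := pullback.lift_fst _ _ _
  have hP : IsPullback gX f' f k := IsPullback.of_hasPullback f k
  obtain ⟨w, hw⟩ : f x ∈ Set.range k := hW.range_fromSpec.symm ▸ hxW
  obtain ⟨x', rfl, hx'w⟩ := Scheme.exists_preimage_of_isPullback hP x w hw.symm
  obtain ⟨z', hz', hzz⟩ : ∃ z', z' ⤳ x' ∧ gX z' = z := by
    obtain ⟨z', rfl⟩ : z ∈ Set.range gX := hz.mem_open gX.isOpenEmbedding.isOpen_range ⟨x', rfl⟩
    exact ⟨z', gX.isEmbedding.isInducing.specializes_iff.mp hz, rfl⟩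
  subst hzz
  obtain ⟨A, hA, X₀, f₀, g₀, gA, hlfp, hqc, hqs, hg₀, hPA, hgA⟩ := exists_model_section Γ(Y, W) f' g' hg'
  haveI : IsNoetherianRing A := Algebra.FiniteType.isNoetherianRing ℤ A
  haveI : IsNoetherianRing (CommRingCat.of A) := inferInstanceAs (IsNoetherianRing A)
  haveI := hlfp
  have hb : DenseRange (Spec.map (CommRingCat.ofHom A.val.toRingHom)) :=
    (PrimeSpectrum.denseRange_comap_iff_ker_le_nilRadical A.val.toRingHom).mpr
      (((RingHom.injective_iff_ker_eq_bot A.val.toRingHom).mp Subtype.val_injective).trans_le bot_le)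
  have hN : ∀ t, FlatMor.fibreDimAt f' (g' (f' x')) ≤ FlatMor.fibreDimAt f' (g' t) := fun t => by
    rw [fibreDimAt_baseChange f hP, fibreDimAt_baseChange f hP, ← Scheme.Hom.comp_apply g' gX (f' x'),
      ← Scheme.Hom.comp_apply g' gX t, hgg', Scheme.Hom.comp_apply, Scheme.Hom.comp_apply,
      show k (f' x') = f (gX x') from congrArg (fun φ : pullback f k ⟶ Y => φ x') hP.w.symm]
    exact hV _ (hWV (hW.range_fromSpec.le ⟨t, rfl⟩))
  have hfb : f₀ (gA x') = Spec.map (CommRingCat.ofHom A.val.toRingHom) (f' x') := by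
    rw [← Scheme.Hom.comp_apply, hPA.w, Scheme.Hom.comp_apply]
  have hirr' := geomIrr_baseChange hP hg' hg hgg' h
  have hx₀ := (mem_component_iff_of_model hPA hg' hg₀ hgA x').mp ((mem_component_iff_of_model hP hg' hg hgg' x').mpr hx)
  have key := mem_component_of_generization_of_fibreDimAt_le f₀ g₀ hg₀
    (fun k' t ht => isIrreducible_preimage_of_model hPA hg' hg₀ hgA hirr' (f' x') k' t (ht.trans hfb))
    (fun s _ => by
      refine le_trans ?_ (le_fibreDimAt_of_denseRange hPA hgA hb hN s)
      refine le_of_eq ?_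
      rw [hfb, ← Scheme.Hom.comp_apply _ g₀, ← hgA, Scheme.Hom.comp_apply, ← fibreDimAt_baseChange f₀ hPA]
      all_goals rfl)
    hx₀ (fun k₀ t ht => isReduced_stalk_fiber_of_model hPA (isGeomReducedAt_baseChange hP hred) k₀ t ht)
    (hz'.map gA.continuous)
  exact (mem_component_iff_of_model hP hg' hg hgg' z').mp ((mem_component_iff_of_model hPA hg' hg₀ hgA z').mpr key)

set_option backward.isDefEq.respectTransparency false in
include hg in
/-- Over a locally Noetherian base, generizations of geometrically reduced points of a component of constant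
dimension lie in the components. -/
theorem mem_sectionComponents_of_generization [IsLocallyNoetherian Y] [LocallyOfFiniteType f]
    [LocallyOfFinitePresentation f] (h : GeomIrr f g) {x : X} (hx : x ∈ MoreMor.sectionComponents f g)
    (hV : ∀ η : Y, η ⤳ f x → FlatMor.fibreDimAt f (g (f x)) ≤ FlatMor.fibreDimAt f (g η))
    (hred : FBase.IsGeomReducedAt (f.fiberToSpecResidueField (f.base x)) (f.asFiber x))
    {z : X} (hz : z ⤳ x) : z ∈ MoreMor.sectionComponents f g := by
  refine mem_component_of_generization_of_fibreDimAt_le f g hg (fun k t ht => h.isIrreducible_preimage f g k t)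
    hV hx (fun k₀ t ht => ?_) hz
  obtain ⟨v, hv⟩ := (f.range_fiberι (k₀ (pullback.snd f k₀ t))).ge (show pullback.fst f k₀ t ∈ f ⁻¹' {k₀ (pullback.snd f k₀ t)} by
    show f (pullback.fst f k₀ t) = k₀ (pullback.snd f k₀ t)
    rw [← Scheme.Hom.comp_apply, pullback.condition, Scheme.Hom.comp_apply])
  refine isReduced_stalk_fiber_of_isGeomReducedAt f k₀ _ ((pullback.snd f k₀).asFiber t) v ?_
    (isGeomReducedAt_of_fiberι f hred _ v (hv.trans ht))
  rw [Scheme.Hom.fiberι_asFiber, hv]

end Groth.Agent.H06SecComp
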